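import Cfsg.Agent.H13.SylMult.Perm
import Cfsg.Agent.H70.RuMult.Gens
import Cfsg.Agent.H70.RuMult.Perms0
import Cfsg.Agent.H70.RuMult.Perms1
import Cfsg.Agent.H70.RuMult.Perms2
import Cfsg.Agent.H70.RuMult.Perms3
import Cfsg.Agent.H70.RuMult.Perms4
import Cfsg.Agent.H70.RuMult.Perms5
import Cfsg.Agent.H70.RuMult.Perms6
import Cfsg.Agent.H70.RuMult.Perms7

/-! Sylow presentations and certificates of the kernel bounds for Ru. -/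

set_option autoImplicit false
set_option maxRecDepth 100000

namespace Cfsg.Agent.H70.RuMult

open Cfsg.Agent.H16 Cfsg.Agent.H36 Cfsg.Agent.H13.SylMult

/-- The program edges. -/
noncomputable def edge : PArr :=
 (.node (.node (.node (.node (.node (.node (.leaf 0x23f006d000001ff0000000001bf00540000017f00810000013f006d000000ff0054000000bf00750000007f004f0000003f003e000000000000)
 (.leaf 0x21f0054000001df00540000019f00db0000015f00810000011f0000000000df00540000009f00750000005f003c0000000f0001))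
 (.node (.leaf 0x20f00ab000001cf00540000018f00470000014f006d0000010f0047000000cf00870000008f005c0000004c004f0000000f000e)
 (.leaf 0x22f009a000001ef00db000001af00c20000016f009a0000012f006d000000ef00c2000000ab00ab0000006f005c00000004002f)))
 (.node (.node (.leaf 0x2470001000002070047000001c7004700000187004700000147009a000001070000000000c700c600000083008700000011002e000000010000)
 (.leaf 0x227006d000001e700c2000000db009a0000016700ab00000127006d000000e70000000000a7009a00000067005c000000270026))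
 (.node (.leaf 0x2170054000001d7009a0000019700540000015700c2000001170081000000d700750000009700870000005400540000000b0017)
 (.leaf 0x2370047000001f70081000001b7006d0000017700470000013700ab000000f70000000000b7009a000000770075000000370036))))
 (.node (.node (.node (.leaf 0x24300540000020300ab000001c3004700000183009a0000014300ab000001030001000000c300af00000081008100000043003c000000020002)
 (.leaf 0x22300db000001e30047000001a3006d0000016300470000012300ab000000e30001000000a3005c00000063005c000000030023))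
 (.node (.leaf 0x2130081000001d3006d000001930054000001530081000001130047000000d3008700000093007500000053003e000000130012)
 (.leaf 0x233009a000001f30001000001b300000000017300540000009a00ab000000f3006d000000b3005c000000720072000000330032)))
 (.node (.node (.leaf 0x20b0081000001cb009a0000018b00c20000014b00810000010b00db000000cb003c0000008b003e0000004b003e0000000b000a)
 (.leaf 0x22b009a000001eb0054000001ab006d0000016b009a0000012b0054000000eb006d0000001100310000006b004f0000002a0008))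
 (.node (.leaf 0x21b0000000001db00810000019b00c20000015b00010000011b00c20000007200db0000009b00830000005b00590000001b001a)
 (.leaf 0xe9006d000001fb006d000001bb00810000017b00810000013b00ab000000ea006d000000bb00750000007b005c0000003b003a)))))
 (.node (.node (.node (.node (.leaf 0x24100ab000002010054000001c1004700000181004700000141004700000101009a000000c100b000000035000100000041003c000000000000)
 (.leaf 0x2210081000001e10054000001a100db00000161006d000001210081000000e1006d000000a1008700000061003e00000020000b))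
 (.node (.leaf 0xda00db000001d100ab00000191006d000001510081000001110000000000d1005c00000091007500000051004f000000110010)
 (.leaf 0x23100db000001f10047000001b100db0000017100c200000131006d000000f10054000000b1004f0000006d006d000000310030)))
 (.node (.node (.leaf 0x209009a000000fc006d0000018900810000014900010000010900db000000c9004f00000089003e00000049003e000000080009)
 (.leaf 0x2290001000001e90054000001a9006d0000016900540000012900db000000e900ab000000a9009a00000069004f000000130008))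
 (.node (.leaf 0x219006d000001d900470000008100c20000015900010000011900c2000000d900b0000000990075000000580058000000190018)
 (.leaf 0x2390000000001f900db000001b900ab000001790001000001390081000000f90001000000b9008700000079004f000000060001))))
 (.node (.node (.node (.leaf 0x24500000000020500c2000001c5006d00000185000000000145004700000105009a000000c500c400000084008400000045003e000000010001)
 (.leaf 0x2250081000001e5009a000001a500000000016500c2000000ab00db000000e50081000000a5007500000065005c000000250024))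
 (.node (.leaf 0x215008100000135006d00000195008100000155006d000001150047000000d5009a000000950087000000550049000000150014)
 (.leaf 0x2350000000001f50000000001b5006d000001750001000001350081000000f50054000000b5003e000000710075000000350034)))
 (.node (.node (.leaf 0x20d0001000001cd00540000018d006d0000014d00810000010d0081000000cd00c20000008d00870000004d004d0000000d000c)
 (.leaf 0xb00081000000ec0081000001ad006d0000016d00010000012d0054000000ed009a000000ac00350000003700250000002a0022))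
 (.node (.leaf 0x21d0000000001dd00470000019d00470000015d006d0000011d00c2000000dd009a0000009d00750000005d005c0000001d001c)
 (.leaf 0x23d00ab000001fd0000000001bd00ab0000017d006d0000013d0000000000fd0081000000bd00750000007d005c000000040002))))))
 (.node (.node (.node (.node (.node (.leaf 0x2400054000002000047000001c000ab00000180005400000140009a000001000054000000c0007500000080005c00000040003e000000000000)
 (.leaf 0x1ba0081000001e00054000001a000540000016000db000001200000000000e0009a000000a0003c00000060004f00000020001f))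
 (.node (.leaf 0x2100001000001d0000000000190009a00000150006d000001100001000000d0009a00000090004f00000050004f0000000d0000)
 (.leaf 0x2300081000001f00047000001b0004700000170004700000130009a000000f000db000000af00b000000070003e0000002e0022)))
 (.node (.node (.leaf 0x2480054000002080054000001c8006d0000018800470000014800ab0000006d0081000000c8003e000000880087000000480039000000080007)
 (.leaf 0x22800c2000001e80000000001a800ab0000016800000000012800c2000000c200db000000a8007500000068004f0000000f0028))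
 (.node (.leaf 0x21800ab000001d8006d00000198004700000158005400000118006d000000d80075000000980087000000580054000000150008)
 (.leaf 0x2380081000000bc0054000000c2009a000001780081000001380047000000f800ab000000b800b000000078003e000000080038))))
 (.node (.node (.node (.leaf 0x2440000000002040081000001c400000000018400c20000014400470000010400ab0000006e005500000084008100000044003c000000000001)
 (.leaf 0x2240047000001e40047000001a4006d0000016400810000012400ab000000e40081000000a4004f00000064004f0000001d0001))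
 (.node (.leaf 0x21400db000001d40054000001940000000001540047000001140047000000d4008700000094008700000031000f000000000006)
 (.leaf 0x234006d000001f40081000001b400000000017400c200000134006d000000f40054000000b4004f000000740073000000330001)))
 (.node (.node (.leaf 0x20c0001000001cc00db0000018c006d0000014c00810000010c0047000000cc003e0000008c004f000000470047000000080000)
 (.leaf 0x22c0054000001ec0000000001ac00ab0000016c00540000012c0081000000ec006d000000ac009c0000006c004f0000002c002b))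
 (.node (.leaf 0x21c0081000001dc00ab0000019c0047000000ea00db0000011c0054000000dc006d0000009c008700000057005c00000008001b)
 (.leaf 0x23c006d000001fc00db000001bc006d0000017c009a0000013c0054000000fc0081000000bc009a0000007c007500000039003c)))))
 (.node (.node (.node (.node (.leaf 0x242009a000000c000c2000001c20054000001820054000000a800c20000010200810000006e00ac00000082006f00000042003c000000020000)
 (.leaf 0x222009a000000d800c2000001a2000000000162006d000001220000000000e20047000000a2009a00000062004f000000220021))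
 (.node (.leaf 0x212006d000001d2006d0000019200470000015200c2000001120000000000d2009a00000092007500000052004f00000008000f)
 (.leaf 0x2320054000001f20054000001b200ab000001720081000001320000000000f20047000000b2003e00000072006d000000040027)))
 (.node (.node (.leaf 0x20a0054000001ca00810000014f00810000014a00470000010a0081000000ca009a0000008a004f0000004a003e000000050008)
 (.leaf 0x22a0001000001ea0081000001aa00db0000016a00010000012a0081000000ea00ab000000aa00870000006a005c0000002a0029))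
 (.node (.leaf 0x21a0047000001da00540000019a00810000015a00470000011a0054000000da00b00000003100250000005a005a00000001000f)
 (.leaf 0x23a00ab000001fa0047000001ba006d000000e9009a0000013a0054000000fa0054000000ba004f0000007a005c000000060006))))
 (.node (.node (.node (.leaf 0x2460000000002060047000001c6006d00000186009a000001460047000001060081000000c3006e00000086008500000046003c000000060005)
 (.leaf 0x226009a000001e60081000001a6005400000166005400000126006d000000e60047000000a6008700000066004f000000190013))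
 (.node (.leaf 0x2160081000001d6006d000001960001000001560081000000c000ab000000d6007500000096008700000056003e000000020016)
 (.leaf 0x2360047000001f60001000001b6009a00000176006d0000013600db000000f60000000000b600b0000000760075000000110000)))
 (.node (.node (.leaf 0x20e0000000001ce00810000018e006d000000c100ab0000010e0054000000ce009a0000008e004f0000004e004700000000000b)
 (.leaf 0x22e0081000001ee00ab000001ae00540000015d00810000012e0000000000ee0081000000ae00ad0000006e00560000002e002d))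
 (.node (.leaf 0x21e00ab000001de00000000019e00540000015e00810000011e0054000000de00470000009e003e0000005e004f0000000f001e)
 (.leaf 0x23e00db000001fe0001000001be009a0000017e00810000013e0000000000fe00db000000be009a0000007e00750000003d003e)))))))

/-- The program. -/
noncomputable def ctx : AutEngine.Ctx :=
  ⟨4060, 12, gens, 586, (.node (.node (.node slpTab0 slpTab4) (.node slpTab2 slpTab6)) (.node (.node slpTab1 slpTab5) (.node slpTab3 slpTab7))), edge⟩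

/-- The presentation at 2. -/
def pc2 : Pc := ⟨2, 14, 3, [[6,7,8,10,11,12],[],[],[],[],[],[],[],[],[],[],[],[],[],[3],[3,6,8,9,11,13],[],[],[],[],[],[],[],[],[],[],[],[],[4],[5],[6,9,10,11,12],[],[],[],[],[],[],[],[],[],[],[],[8,11,13],[8,10,13],[6],[11,13],[],[],[],[],[],[],[],[],[],[],[9,10,11,12,13],[7],[10,11,12],[11],[13],[],[],[],[],[],[],[],[],[],[6,7,8,9,11,12,13],[6,9,11,13],[8,9,11,13],[8],[9,10,13],[9,10],[],[],[],[],[],[],[],[],[10,13],[8],[11,13],[11,13],[12],[10,11,12,13],[11,13],[],[],[],[],[],[],[],[10,11,12,13],[12],[9],[11,13],[13],[10,11,12],[11,12,13],[13],[],[],[],[],[],[],[12,13],[11,12],[10],[13],[11,13],[11,13],[12],[12],[],[],[],[],[],[],[12,13],[10,11,12],[11,12,13],[11,12],[],[13],[13],[],[13],[],[],[],[],[],[11],[11],[12,13],[12,13],[],[13],[13],[],[],[],[],[],[],[],[13],[12],[],[],[],[13],[],[],[],[],[],[],[],[],[],[],[13],[],[],[],[],[],[],[],[],[],[],[],[],[],[],[],[],[],[],[],[],[],[],[],[],[]],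 [(1,0),(2,0),(2,1),(3,2),(4,1),(6,1),(7,2),(8,2),(10,0),(11,1),(12,2)]⟩

/-- Part of the certificate at 2. -/
def row2_0 : List ℤ := [0,0,0,0,0,-1,0,1,0,0,-1,-1,0,0,0,0,1,1,1,0,0,-1,0,0,0,0,0,0,0,0,0,0,-1,0,0,0,0,-1,0,0,0,-1,0,0,0,0,-1,0,0,1,0,1,1,0,0,0,0,0,-1,1,-1,-1,0,0,0,0,0,0,0,1,0,0,0,-1,0,-3,0,0,0,0,-1,0,0,1,-1,0,1,1,0,2,0]

/-- Part of the certificate at 2. -/
def row2_1 : List ℤ := [0,0,0,0,0,0,0,0,0,0,0,0,0,0,0,0,0,0,0,0,0,0,0,0,0,0,1,-1,0,0,0,0,0,0,0,0,0,0,0,0,0,0,0,0,0,0,-1,0,0,0,0,-1,0,0,0,0,0,0,0,0,0,1,0,-1,0,0,0,0,0,0,0,0,0,0,1,0,-1,1,-1,0,0,0,0,0,0,0,0,0,0,-3,0]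

/-- Part of the certificate at 2. -/
def row2_2 : List ℤ := [0,0,0,0,0,1,0,0,0,0,0,0,0,1,0,0,-1,0,0,0,0,0,0,0,0,0,0,0,0,-1,0,1,0,0,0,0,0,0,0,0,0,0,0,0,0,0,0,-1,0,0,0,0,0,0,0,-1,0,-1,0,0,0,1,0,-1,0,0,0,0,0,0,0,0,-1,0,0,-2,0,0,0,-1,0,-1,0,1,0,0,0,0,-1,0,0]

/-- Part of the certificate at 2. -/
def row2_3 : List ℤ := [0,0,0,0,0,0,0,0,0,0,1,0,0,0,0,0,0,-1,0,0,0,0,0,0,0,0,0,0,0,0,-1,0,0,1,0,0,0,0,0,0,0,0,0,0,0,-1,0,0,0,1,0,0,0,-1,0,0,0,0,0,0,0,-1,0,0,-1,0,0,0,0,-1,0,0,-1,0,0,-1,-1,0,0,-1,0,0,0,1,0,-1,0,0,-1,0,-1]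

/-- Part of the certificate at 2. -/
def row2_4 : List ℤ := [0,0,0,0,0,-1,0,0,0,0,0,0,0,0,0,0,0,0,0,1,0,-1,0,0,0,0,0,0,0,0,0,0,0,0,0,-1,0,-1,0,0,0,1,0,0,-1,0,0,0,0,0,1,0,0,0,0,0,-1,0,0,0,0,0,0,0,-2,0,-1,-1,0,0,0,1,0,0,0,-2,-1,0,-1,0,-1,0,0,0,1,0,-1,1,-1,-1,0]

/-- Part of the certificate at 2. -/
def row2_5 : List ℤ := [0,0,0,0,0,0,0,0,0,0,0,0,0,0,0,0,0,0,0,0,0,0,0,0,0,0,0,0,0,0,0,0,0,0,0,0,-1,0,-1,0,0,0,0,0,0,-1,0,0,0,0,0,0,-1,0,1,-1,0,-1,0,0,0,0,-1,1,0,1,0,0,0,0,0,0,0,-1,1,0,-1,0,0,-1,0,0,0,0,0,0,0,0,0,1,-1]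

/-- Part of the certificate at 2. -/
def row2_6 : List ℤ := [0,0,0,0,0,0,0,0,0,0,0,1,0,0,0,0,0,0,0,0,0,0,0,-1,0,0,0,0,0,0,0,0,0,0,0,0,0,0,0,-1,0,1,0,0,1,0,0,0,-1,0,0,0,-2,0,0,0,0,0,-1,0,-1,0,-2,-1,0,0,1,0,0,-1,0,-1,0,-2,-1,-1,0,0,0,0,0,0,0,0,1,0,0,0,2,1,-1]

/-- Part of the certificate at 2. -/
def row2_7 : List ℤ := [0,0,0,0,0,0,0,0,0,0,0,0,0,0,0,0,0,0,0,0,0,0,0,0,0,0,0,0,0,1,0,0,0,0,0,0,0,-1,0,0,0,0,-1,0,0,0,-1,0,0,0,0,-1,0,0,1,0,-1,1,0,0,0,-1,-1,0,0,0,0,-1,0,0,0,0,-1,0,-1,0,-1,0,0,0,-1,1,0,0,0,0,0,-1,-1,-2,0]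

/-- Part of the certificate at 2. -/
def row2_8 : List ℤ := [0,0,0,0,0,0,0,0,0,0,0,0,0,0,0,0,0,0,0,0,0,-1,0,0,0,0,0,0,0,1,0,0,1,0,0,0,0,0,0,0,0,0,0,0,0,0,0,1,0,0,1,0,0,0,0,0,0,0,0,0,0,0,0,1,0,0,0,0,0,0,0,0,0,0,1,2,1,0,0,0,0,1,0,0,0,-1,0,0,0,0,0]

/-- Part of the certificate at 2. -/
def row2_9 : List ℤ := [0,0,0,0,0,0,0,0,0,0,0,0,0,0,0,0,1,0,0,0,0,0,0,0,0,0,0,0,0,0,0,0,0,0,0,0,0,0,0,0,0,0,0,0,0,0,-1,0,0,-1,0,0,0,0,0,1,-1,0,0,0,0,0,0,-1,0,0,0,-1,0,0,0,0,0,0,1,0,0,0,0,0,0,0,0,-1,0,0,0,0,-1,-1,-1]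

/-- Part of the certificate at 2. -/
def row2_10 : List ℤ := [0,0,0,0,0,0,0,0,0,0,-1,0,0,1,0,0,0,0,0,0,-1,-1,0,0,1,0,0,-1,0,0,0,1,-2,-1,1,-1,0,0,0,0,0,-1,-2,0,0,0,-1,0,0,0,0,0,1,0,1,0,-1,0,0,0,1,0,-1,-1,-1,0,-1,0,0,0,1,0,1,-1,-1,-2,-2,1,-1,0,0,0,0,0,1,-1,-1,-2,-1,-2,0]

/-- Part of the certificate at 2. -/
def row2_11 : List ℤ := [0,0,0,0,0,0,0,0,0,0,0,-1,0,0,-1,0,-1,0,0,0,0,0,-1,0,0,0,1,0,0,0,0,-1,-1,0,1,0,-1,0,-1,0,-2,-2,1,-1,0,0,0,-1,0,-1,-1,0,-2,-1,1,-1,0,0,0,-1,0,1,1,0,-1,0,0,0,0,0,0,-2,1,-3,-1,-2,-1,1,0,-1,0,0,0,-2,-2,0,-1,-2,-1,0,-2]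

/-- Part of the certificate at 2. -/
def row2_12 : List ℤ := [0,0,0,0,0,0,0,0,0,0,0,0,0,0,-1,0,0,-1,0,0,0,0,0,0,0,0,0,1,0,0,-1,-1,0,0,0,1,-1,0,0,0,-1,0,-1,0,0,0,0,0,0,0,0,1,2,0,0,-1,0,0,0,-1,0,0,0,0,-1,0,0,0,0,0,0,0,-1,-1,1,-3,0,0,1,-1,0,0,-1,-1,0,0,0,1,0,1,-3]

/-- Part of the certificate at 2. -/
def row2_13 : List ℤ := [0,0,0,0,0,0,0,0,0,0,0,0,0,0,0,-1,0,0,0,0,0,-1,0,0,0,0,1,0,-1,0,1,0,0,0,0,0,0,-1,0,0,0,0,0,0,0,0,0,0,0,0,0,0,0,0,0,0,-1,0,1,0,-1,1,0,0,-1,0,0,-1,0,0,0,0,1,0,0,-3,0,0,0,0,-1,0,1,1,0,1,0,0,-1,1,0]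

/-- Part of the certificate at 2. -/
def row2_14 : List ℤ := [0,0,0,0,0,0,0,0,0,0,0,0,0,0,0,-1,0,0,0,0,0,0,0,0,0,0,0,1,0,0,1,0,0,0,0,0,0,-1,0,0,0,0,0,0,0,0,0,0,1,1,0,1,1,0,0,0,-1,0,0,1,0,-1,0,0,0,0,0,0,0,0,0,0,1,0,1,1,0,0,0,0,-1,0,1,1,0,1,-1,1,-2,0,1]

/-- Part of the certificate at 2. -/
def row2_15 : List ℤ := [0,0,0,0,0,0,0,0,0,0,0,0,0,0,0,0,0,1,0,0,0,0,0,0,0,0,0,0,-1,0,0,0,0,0,0,0,0,-1,0,0,-1,0,1,0,0,0,0,0,0,0,0,2,1,1,0,0,-1,0,0,0,0,1,1,0,0,0,0,0,0,0,-1,0,2,1,1,0,0,0,0,0,-1,0,0,0,0,1,0,2,-1,-1,0]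

/-- Part of the certificate at 2. -/
def row2_16 : List ℤ := [0,0,0,0,0,0,0,0,0,0,0,0,0,0,0,0,-1,0,0,0,0,0,-1,0,0,0,0,0,0,-1,0,0,0,0,1,0,0,0,-1,1,0,0,0,0,0,0,0,0,1,0,0,0,0,0,0,0,0,-1,1,1,1,1,0,0,0,0,0,0,-1,1,1,0,0,0,1,0,0,1,0,0,0,-1,1,-1,-1,0,0,1,1,0,1]

/-- Part of the certificate at 2. -/
def row2_17 : List ℤ := [0,0,0,0,0,0,0,0,0,0,0,0,0,0,0,0,-1,0,0,0,0,0,0,1,1,0,0,0,0,0,0,0,0,0,0,1,0,0,-1,0,-1,0,0,0,1,0,0,0,0,0,-1,0,1,1,0,0,0,-1,0,1,-1,0,1,2,2,0,0,0,0,0,1,-1,0,-1,2,1,1,0,1,0,0,-1,0,-1,0,0,0,2,1,0,0]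

/-- Part of the certificate at 2. -/
def row2_18 : List ℤ := [0,0,0,0,0,0,0,0,0,0,0,0,0,0,0,0,0,0,0,0,0,0,0,0,0,0,0,0,0,-1,0,0,0,0,0,0,1,0,-1,0,0,0,-1,0,0,1,0,0,1,0,0,0,1,0,0,0,0,-1,1,0,0,1,0,1,0,0,0,0,0,1,0,0,1,2,0,2,1,0,0,1,0,-1,0,0,0,-1,0,-1,1,1,1]

/-- Part of the certificate at 2. -/
def row2_19 : List ℤ := [0,0,0,0,0,0,0,0,0,0,0,0,0,0,0,0,0,0,0,0,0,0,0,0,0,0,0,0,0,-1,0,0,0,0,0,0,0,1,0,0,0,0,-1,0,0,0,1,0,0,0,0,-1,0,0,0,0,0,0,1,0,0,1,1,0,0,0,0,0,0,0,0,0,0,0,1,0,1,0,0,0,1,0,0,0,0,0,1,0,0,2,0]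

/-- Part of the certificate at 2. -/
def row2_20 : List ℤ := [0,0,0,0,0,0,0,0,0,0,0,0,0,0,0,-1,0,0,0,0,0,0,0,0,0,0,1,0,-1,0,0,0,0,0,0,0,0,0,0,0,0,0,0,0,-1,0,-1,0,0,0,0,1,0,0,0,0,-1,0,0,0,0,-1,0,-1,-1,0,0,0,0,0,0,0,0,0,0,-1,0,0,-1,0,-1,0,0,0,0,0,0,0,-1,1,-1]

/-- Part of the certificate at 2. -/
def row2_21 : List ℤ := [0,0,0,0,0,0,0,0,0,0,0,0,0,0,0,0,-1,0,0,0,0,0,0,0,0,0,0,0,0,0,0,0,0,0,0,0,0,0,0,0,0,0,0,0,0,-1,0,-1,0,0,0,0,0,0,1,0,0,-1,0,0,0,0,0,-1,0,0,0,0,-1,0,0,0,0,0,-1,-1,-1,1,0,-1,0,-1,0,0,0,0,0,-1,1,-1,0]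

/-- Part of the certificate at 2. -/
def row2_22 : List ℤ := [0,0,0,0,0,0,0,0,0,0,0,0,0,0,0,0,0,-1,0,0,0,0,0,0,0,0,0,0,0,0,-1,0,0,0,0,0,0,0,0,0,0,0,0,0,0,0,0,0,-1,0,0,-1,0,-1,0,0,0,0,-1,0,0,-2,0,-1,-1,0,0,0,0,0,0,0,-1,0,-1,-2,0,0,1,0,0,0,-1,0,0,-2,0,-1,-2,0,-2]

/-- Part of the certificate at 2. -/
def row2_23 : List ℤ := [0,0,0,0,0,0,0,0,0,0,0,0,0,0,0,0,0,0,0,0,0,0,0,0,0,0,0,0,0,0,0,1,0,0,0,0,0,0,0,0,0,0,0,0,0,0,-1,0,0,0,0,-1,0,0,1,0,0,0,0,1,0,-1,0,0,0,0,0,0,0,0,0,0,-1,0,1,1,0,1,0,0,-1,0,0,1,0,-1,0,0,-1,-1,0]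

/-- Part of the certificate at 2. -/
def row2_24 : List ℤ := [0,0,0,0,0,0,0,0,0,0,0,0,0,0,0,0,0,0,0,0,0,0,0,0,0,0,0,0,-1,0,0,1,0,0,0,0,0,0,0,0,0,0,0,0,0,0,0,0,0,1,0,1,0,0,0,0,0,0,0,0,0,-2,0,-1,0,0,0,0,0,0,0,0,1,0,1,1,1,0,1,0,0,0,0,1,0,-1,0,0,0,0,0]

/-- Part of the certificate at 2. -/
def row2_25 : List ℤ := [0,0,0,0,0,0,0,0,0,0,0,0,0,0,0,0,0,0,0,0,0,0,0,0,0,0,0,0,0,0,0,0,0,0,0,0,0,0,0,0,0,0,0,0,0,0,0,0,0,0,0,0,0,0,0,1,-1,0,0,0,0,0,0,0,0,0,0,0,0,0,0,0,0,0,0,0,0,0,0,1,-1,0,0,0,0,0,0,0,0,0,0]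

/-- Part of the certificate at 2. -/
def row2_26 : List ℤ := [0,0,0,0,0,0,0,0,0,0,0,0,0,0,0,0,0,0,0,0,0,0,0,0,0,0,0,0,0,0,0,0,0,0,0,0,0,0,0,0,1,0,0,0,0,0,0,-1,0,1,0,0,-1,0,0,0,0,0,0,1,0,0,0,1,0,1,0,0,0,0,1,0,0,-1,-1,-1,0,0,0,0,0,-1,0,1,0,0,-1,1,-1,-1,1]

/-- Part of the certificate at 2. -/
def row2_27 : List ℤ := [0,0,0,0,0,0,0,0,0,0,0,0,0,0,0,0,0,0,0,0,0,0,0,0,1,0,0,0,0,-1,0,0,-1,0,0,0,0,0,0,0,0,0,0,0,0,0,0,0,0,0,0,0,0,0,0,0,0,0,0,0,-1,1,0,0,0,0,1,0,0,0,0,-1,0,0,0,-2,0,0,0,0,0,0,0,0,-1,1,0,0,0,1,0]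

/-- Part of the certificate at 2. -/
def row2_28 : List ℤ := [0,0,0,0,0,0,0,0,0,0,0,0,0,0,0,0,0,0,0,0,0,0,0,0,0,0,0,0,0,0,0,0,0,0,0,0,0,0,0,0,0,0,0,0,0,0,0,0,0,1,0,0,0,0,0,0,0,-1,0,1,0,0,0,-1,0,0,0,0,0,0,1,0,0,0,-1,-1,0,0,0,0,0,-1,0,0,0,0,0,-1,1,0,1]

/-- Part of the certificate at 2. -/
def row2_29 : List ℤ := [0,0,0,0,0,0,0,0,0,0,0,0,0,0,0,0,0,0,0,0,0,0,0,0,0,0,0,0,0,0,0,0,0,0,0,0,0,0,0,0,0,0,0,0,0,0,0,0,0,0,0,0,0,0,0,0,0,-1,0,1,0,0,0,0,0,0,0,1,0,0,0,0,0,0,0,-2,0,0,0,0,0,-1,0,0,0,0,0,0,-1,1,0]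

/-- Part of the certificate at 2. -/
def row2_30 : List ℤ := [0,0,0,0,0,0,0,0,0,0,0,0,0,0,0,0,0,0,0,0,0,0,0,0,1,0,0,0,0,0,0,1,0,0,0,0,0,0,0,0,1,0,0,0,0,0,0,0,-1,0,0,0,0,0,1,0,0,0,0,0,1,0,0,1,1,1,0,0,0,0,0,-1,0,-1,1,1,1,1,0,0,0,0,-1,0,1,0,0,0,3,1,1]

/-- Part of the certificate at 2. -/
def row2_31 : List ℤ := [0,0,0,0,0,0,0,0,0,0,0,0,0,0,0,0,0,0,0,0,0,0,0,0,0,0,0,0,0,0,-1,-1,0,0,0,0,0,0,0,0,1,0,1,0,1,0,0,0,0,-1,0,-1,-1,0,0,0,0,0,0,1,0,-2,0,-1,0,0,1,0,0,0,-1,0,-1,0,-1,-1,0,0,1,0,0,0,0,1,0,-1,1,-1,-1,-1,0]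

/-- Part of the certificate at 2. -/
def row2_32 : List ℤ := [0,0,0,0,0,0,0,0,0,0,0,0,0,0,0,0,0,0,0,0,0,0,0,0,0,0,0,0,0,0,0,1,0,0,0,0,0,0,0,0,1,0,0,0,0,1,0,0,0,0,0,-1,-1,0,0,1,0,0,-1,1,0,0,0,0,0,0,0,0,0,0,0,0,-1,0,1,0,1,0,0,1,0,0,-1,1,0,-1,-1,1,-1,1,1]

/-- Part of the certificate at 2. -/
def row2_33 : List ℤ := [0,0,0,0,0,0,0,0,0,0,0,0,0,0,0,0,0,0,0,0,0,0,0,0,0,0,0,0,0,0,0,1,0,0,0,0,0,0,0,0,0,0,0,0,0,0,1,0,0,0,0,-1,0,0,0,0,1,0,-1,0,0,0,0,1,0,0,0,1,0,0,0,0,-1,0,1,0,1,0,0,0,1,0,-1,0,0,-1,0,1,-1,1,0]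

/-- Part of the certificate at 2. -/
def row2_34 : List ℤ := [0,0,0,0,0,0,0,0,0,0,0,0,0,0,0,0,0,0,0,0,0,0,0,0,0,0,0,0,0,0,0,0,0,0,0,0,0,0,0,0,1,0,0,0,0,0,0,1,0,1,0,0,-1,0,0,0,0,1,0,0,0,0,-1,-1,0,0,0,0,1,-1,0,0,0,0,1,1,0,0,0,0,0,1,0,1,0,0,-1,1,1,1,1]

/-- Part of the certificate at 2. -/
def row2_35 : List ℤ := [0,0,0,0,0,0,0,0,0,0,0,0,0,0,0,0,0,0,0,0,0,-1,0,0,0,0,0,0,0,0,0,0,0,0,0,0,0,0,0,0,0,0,0,0,-1,0,-1,0,0,0,0,0,0,0,0,0,0,0,0,0,0,0,0,-1,-1,1,-1,-1,0,0,0,0,0,0,-1,-2,-1,0,-1,0,-1,0,0,0,0,0,0,-1,0,0,-1]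

/-- Part of the certificate at 2. -/
def row2_36 : List ℤ := [0,0,0,0,0,0,0,0,0,0,0,0,0,0,0,0,0,0,0,0,0,0,-1,0,0,0,0,0,0,0,0,0,0,0,1,0,0,0,-1,0,0,0,0,0,0,-1,0,-1,0,0,0,0,1,0,0,-1,0,-1,0,0,0,0,1,0,0,0,0,0,0,0,0,0,0,1,0,-1,0,0,0,-1,0,-1,0,0,0,0,0,-1,-2,0,-1]

/-- Part of the certificate at 2. -/
def row2_37 : List ℤ := [0,0,0,0,0,0,0,0,0,0,0,0,0,0,0,0,0,0,0,0,0,0,0,-1,0,0,0,0,0,0,0,0,0,0,0,1,0,0,0,-1,0,0,0,0,0,0,0,0,0,0,0,0,-1,0,0,0,0,0,0,0,0,0,-1,0,0,0,0,0,0,-1,0,0,0,0,1,1,0,0,0,0,0,0,-1,0,0,0,0,0,0,-1,-1]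

/-- Part of the certificate at 2. -/
def row2_38 : List ℤ := [0,0,0,0,0,0,0,0,0,0,0,0,0,0,0,0,0,0,0,0,0,0,0,0,0,0,0,0,0,0,0,0,1,0,0,0,0,0,0,0,0,0,0,0,0,0,-1,0,0,0,0,-1,0,0,1,0,-1,0,0,0,1,0,0,0,0,0,0,-1,0,0,0,0,0,0,1,1,0,1,0,0,-1,0,0,0,1,-1,0,0,0,0,0]

/-- Part of the certificate at 2. -/
def row2_39 : List ℤ := [0,0,0,0,0,0,0,0,0,0,0,0,0,0,0,0,0,0,0,0,0,0,0,0,0,0,0,0,0,0,0,0,1,0,0,0,0,0,0,0,0,0,0,0,0,0,0,0,0,0,1,0,0,0,0,0,0,0,0,0,0,-1,0,-1,0,0,0,-1,0,0,0,0,-1,0,0,0,1,0,1,0,0,0,0,0,1,-1,0,-1,1,1,0]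

/-- Part of the certificate at 2. -/
def row2_40 : List ℤ := [0,0,0,0,0,0,0,0,0,0,0,0,0,0,0,0,0,0,0,0,0,0,0,0,-1,0,0,0,0,0,0,0,0,0,0,0,0,-1,0,0,-1,0,0,0,0,0,0,0,0,0,0,0,0,0,0,1,0,0,0,0,0,0,-2,0,-1,0,0,0,0,0,-1,0,0,-1,0,0,-1,0,0,1,0,0,0,-1,0,0,-2,0,-1,-1,-1]

/-- Part of the certificate at 2. -/
def row2_41 : List ℤ := [0,0,0,0,0,0,0,0,0,0,0,0,0,0,0,0,0,0,0,0,0,0,0,0,0,0,0,0,0,0,0,0,0,0,0,0,0,0,0,0,0,1,0,0,0,0,0,-1,0,0,1,0,-1,0,0,0,0,-1,0,0,1,0,-1,0,0,0,0,0,-1,0,0,1,0,-1,0,0,0,1,0,0,0,-1,0,0,1,0,0,0,0,0,0]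

/-- Part of the certificate at 2. -/
def row2_42 : List ℤ := [0,0,0,0,0,0,0,0,0,0,0,0,0,0,0,0,0,0,0,0,0,0,0,0,0,0,0,0,0,0,0,0,0,0,0,0,0,0,0,0,0,0,0,0,0,0,0,0,0,0,0,0,0,0,0,0,0,0,0,0,0,0,0,0,0,0,0,0,-1,0,0,-1,0,0,0,0,0,0,1,0,0,0,0,0,-1,0,0,0,0,-1,0]

/-- Part of the certificate at 2. -/
def row2_43 : List ℤ := [0,0,0,0,0,0,0,0,0,0,0,0,0,0,0,0,0,0,0,0,0,0,0,0,0,0,0,0,0,0,0,0,0,0,0,0,0,0,-1,0,0,0,0,0,0,0,0,0,0,0,1,0,1,0,0,0,0,0,0,0,1,0,1,0,0,0,0,0,0,0,0,1,0,1,0,0,0,0,0,1,0,0,0,0,0,0,-1,-1,-1,-1,0]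

/-- Part of the certificate at 2. -/
def row2_44 : List ℤ := [0,0,0,0,0,0,0,0,0,0,0,0,0,0,0,0,0,0,0,0,0,0,0,0,0,0,0,0,0,0,0,0,0,0,0,0,0,0,0,0,0,0,0,0,0,0,0,0,0,0,0,0,0,0,0,0,0,-1,0,0,1,0,0,0,0,0,0,0,0,0,0,0,0,0,0,0,0,0,0,0,1,-1,0,0,0,0,0,0,-1,0,0]

/-- Part of the certificate at 2. -/
def row2_45 : List ℤ := [0,0,0,0,0,0,0,0,0,0,0,0,0,0,0,0,0,0,0,0,0,0,0,0,-1,0,0,0,0,0,0,0,1,0,0,0,0,0,0,0,0,1,0,0,0,0,0,0,-1,0,0,0,0,0,1,0,0,0,-1,0,0,-1,-1,0,0,1,0,0,0,-1,0,0,-1,0,0,1,0,0,0,0,0,0,-1,-1,1,0,0,1,0,0,-1]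

/-- Part of the certificate at 2. -/
def row2_46 : List ℤ := [0,0,0,0,0,0,0,0,0,0,0,0,0,0,0,0,0,0,0,0,0,0,0,0,-1,0,0,0,0,0,0,0,0,0,0,0,0,0,0,0,0,1,0,0,1,0,0,0,0,-1,0,0,-1,0,0,0,0,0,0,-1,1,0,0,0,0,0,1,0,0,-1,0,0,0,-1,0,0,0,0,0,0,0,0,0,0,1,0,0,0,2,3,-1]

/-- Part of the certificate at 2. -/
def row2_47 : List ℤ := [0,0,0,0,0,0,0,0,0,0,0,0,0,0,0,0,0,0,0,0,0,0,0,0,0,0,0,0,0,0,0,0,1,0,0,0,0,0,0,-1,0,1,-1,0,0,1,0,0,0,0,0,-1,-2,0,0,1,0,0,0,0,1,-1,-1,1,0,0,0,0,0,0,0,0,-1,0,1,0,1,0,0,0,0,0,0,0,1,-1,1,0,-1,0,0]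

/-- Part of the certificate at 2. -/
def row2_48 : List ℤ := [0,0,0,0,0,0,0,0,0,0,0,0,0,0,0,0,0,0,0,0,0,0,0,0,0,0,0,0,0,0,0,0,1,0,0,0,0,0,0,0,0,0,0,0,0,0,1,0,0,0,0,-1,0,0,0,0,1,0,-1,0,0,0,0,1,0,0,0,1,0,0,0,0,-1,0,1,0,1,0,0,0,0,0,-1,0,0,0,0,1,0,1,0]

/-- Part of the certificate at 2. -/
def row2_49 : List ℤ := [0,0,0,0,0,0,0,0,0,0,0,0,0,0,0,0,0,0,0,0,0,0,0,0,0,0,0,0,0,0,0,0,0,0,0,0,0,0,0,0,0,1,0,0,0,0,0,1,0,0,1,0,-1,0,0,0,0,1,0,0,0,0,-1,-1,0,0,0,0,1,0,0,0,0,-1,-1,0,0,0,0,0,0,0,-1,0,1,0,-1,-1,0,0,0]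

/-- Part of the certificate at 2. -/
def row2_50 : List ℤ := [0,0,0,0,0,0,0,0,0,0,0,0,0,0,0,0,0,0,0,0,0,0,0,0,0,0,0,0,0,0,0,0,0,0,0,0,0,0,0,0,0,0,0,0,0,0,0,0,0,-1,1,0,0,0,1,0,0,0,0,-1,0,0,0,-1,0,1,0,0,0,0,-1,0,0,0,-1,0,0,1,0,0,0,0,0,-1,1,0,0,-1,1,2,0]

/-- Part of the certificate at 2. -/
def row2_51 : List ℤ := [0,0,0,0,0,0,0,0,0,0,0,0,0,0,0,0,0,0,0,0,0,0,0,0,0,0,0,0,0,0,0,0,1,0,0,0,0,0,0,0,0,0,0,0,0,0,0,0,0,0,0,0,0,0,0,0,0,0,0,0,0,-1,0,0,0,0,1,0,0,0,-1,0,0,0,0,0,1,0,1,0,0,0,0,0,0,-1,0,0,0,-1,0]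

/-- Part of the certificate at 2. -/
def row2_52 : List ℤ := [0,0,0,0,0,0,0,0,0,0,0,0,0,0,0,0,0,0,0,0,0,0,0,0,0,0,0,0,0,0,0,0,0,0,0,0,0,0,0,0,-1,0,0,0,0,0,0,0,0,0,0,0,0,0,0,1,0,0,0,0,1,0,0,0,0,0,0,0,0,0,0,0,0,-1,0,-1,0,0,0,1,0,0,0,0,1,0,0,0,1,1,0]

/-- Part of the certificate at 2. -/
def row2_53 : List ℤ := [0,0,0,0,0,0,0,0,0,0,0,0,0,0,0,0,0,0,0,0,0,0,0,0,0,0,0,0,0,0,0,0,0,0,0,0,0,0,0,0,0,0,0,0,0,0,0,0,0,0,0,0,0,0,0,0,1,0,0,-1,1,0,0,0,0,0,0,1,0,0,0,0,0,0,0,-2,0,0,0,0,1,0,0,-1,1,0,0,0,0,0,0]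

/-- Part of the certificate at 2. -/
def row2_54 : List ℤ := [0,0,0,0,0,0,0,0,0,0,0,0,0,0,0,0,0,0,0,0,0,0,0,0,0,0,0,0,0,0,0,0,0,0,0,0,0,0,0,0,0,0,0,0,0,0,0,0,0,0,0,0,0,0,0,0,0,1,0,0,0,0,0,0,0,0,0,0,1,0,0,1,0,0,0,1,0,0,0,0,0,1,0,-1,0,0,0,0,1,1,0]

/-- Part of the certificate at 2. -/
def row2_55 : List ℤ := [0,0,0,0,0,0,0,0,0,0,0,0,0,0,0,0,0,0,0,0,0,0,0,0,0,0,0,0,0,0,0,0,0,0,0,0,0,0,0,0,0,0,0,0,0,0,0,0,0,-1,1,0,0,0,0,0,0,0,1,-1,1,0,0,0,0,0,0,0,0,1,-1,1,0,0,0,0,0,0,0,0,0,0,1,0,1,0,0,0,2,1,0]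

/-- Part of the certificate at 2. -/
def row2_56 : List ℤ := [0,0,0,0,0,0,0,0,0,0,0,0,0,0,0,0,0,0,0,0,0,0,0,0,0,0,0,0,-1,0,0,0,0,0,0,0,0,0,0,0,0,0,0,0,0,0,0,0,0,0,0,0,0,0,1,0,-1,0,0,0,0,0,0,0,0,1,-1,0,0,0,0,0,0,0,0,1,0,0,-1,0,-1,0,0,0,0,0,0,0,0,0,0]

/-- Part of the certificate at 2. -/
def row2_57 : List ℤ := [0,0,0,0,0,0,0,0,0,0,0,0,0,0,0,0,0,0,0,0,0,0,0,0,0,0,0,0,0,-1,0,0,0,0,0,0,0,0,0,0,0,0,0,0,0,0,0,-1,0,0,0,0,0,0,0,0,0,0,0,0,0,0,0,-1,0,0,0,0,-1,0,0,0,0,0,1,1,0,0,0,-1,0,0,0,0,0,0,0,0,1,-1,-1]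

/-- Part of the certificate at 2. -/
def row2_58 : List ℤ := [0,0,0,0,0,0,0,0,0,0,0,0,0,0,0,0,0,0,0,0,0,0,0,0,0,0,0,0,0,0,-1,0,0,0,0,0,0,0,0,0,0,0,0,0,1,0,0,0,-1,0,0,0,0,0,0,-1,0,0,-1,0,0,0,0,0,0,0,0,0,0,-1,0,0,0,0,1,1,0,0,0,0,0,0,-1,0,0,0,0,-1,0,-1,-2]

/-- Part of the certificate at 2. -/
def row2_59 : List ℤ := [0,0,0,0,0,0,0,0,0,0,0,0,0,0,0,0,0,0,0,0,0,0,0,0,0,0,0,0,0,0,0,0,0,0,0,0,0,0,0,0,0,0,0,0,0,0,0,0,0,0,0,0,0,0,0,0,0,0,0,0,0,1,0,0,0,0,0,-1,0,0,0,0,-1,0,0,-1,0,1,0,0,-1,0,0,0,0,1,0,0,0,0,0]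

/-- Part of the certificate at 2. -/
def row2_60 : List ℤ := [0,0,0,0,0,0,0,0,0,0,0,0,0,0,0,0,0,0,0,0,0,0,0,0,0,0,0,0,0,0,0,0,0,0,0,0,0,0,0,0,0,0,0,0,0,0,0,0,0,0,0,1,0,0,0,0,-1,0,0,0,0,-1,0,-1,0,0,0,-1,0,0,0,0,-1,0,-1,0,0,0,1,0,0,0,0,0,0,0,0,-1,0,0,0]

/-- Part of the certificate at 2. -/
def row2_61 : List ℤ := [0,0,0,0,0,0,0,0,0,0,0,0,0,0,0,0,0,0,0,0,0,0,0,0,0,0,0,0,0,0,0,-1,0,0,0,0,0,0,0,0,0,0,0,0,0,0,-1,0,0,-1,0,0,0,0,0,0,0,0,0,0,0,0,0,0,0,0,0,0,0,0,-1,0,0,0,-1,0,-1,0,0,1,0,0,0,0,0,0,0,-1,0,-2,-1]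

/-- Part of the certificate at 2. -/
def row2_62 : List ℤ := [0,0,0,0,0,0,0,0,0,0,0,0,0,0,0,0,0,0,0,0,0,0,0,0,0,0,0,0,0,0,0,0,0,0,0,0,0,0,0,0,0,0,1,0,0,0,0,0,0,0,0,1,0,0,1,0,0,0,0,0,0,1,-1,-1,0,0,0,0,-1,0,0,0,1,-1,-1,-1,0,1,0,0,0,-1,0,0,0,1,0,1,2,0,1]

/-- Part of the certificate at 2. -/
def row2_63 : List ℤ := [0,0,0,0,0,0,0,0,0,0,0,0,0,0,0,0,0,0,0,0,0,0,0,0,0,0,0,0,0,0,0,0,-1,0,0,0,0,0,0,0,0,0,0,0,0,0,0,0,0,0,0,0,0,0,0,0,0,-1,0,0,0,0,0,0,0,0,0,0,-1,0,0,-1,0,0,0,1,0,0,1,0,0,0,0,0,-1,0,0,0,-1,-1,0]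

/-- Part of the certificate at 2. -/
def row2_64 : List ℤ := [0,0,0,0,0,0,0,0,0,0,0,0,0,0,0,0,0,0,0,0,0,0,0,0,0,0,0,0,0,0,0,0,0,0,0,0,0,0,0,0,0,0,0,0,0,0,0,-1,0,0,0,1,0,0,0,1,0,0,0,0,0,1,0,-1,0,0,0,0,0,0,0,0,1,0,1,1,0,0,0,1,0,0,0,0,0,0,0,-2,-1,-1,0]

/-- Part of the certificate at 2. -/
def row2_65 : List ℤ := [0,0,0,0,0,0,0,0,0,0,0,0,0,0,0,0,0,0,0,0,0,0,0,0,0,0,0,0,0,0,0,0,0,0,0,0,0,0,0,0,0,0,0,0,0,0,0,0,0,0,0,0,0,0,0,0,1,0,0,0,0,1,0,0,0,0,0,0,0,0,0,0,0,0,0,0,0,0,0,0,1,-1,0,0,0,0,0,0,1,0,0]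

/-- Part of the certificate at 2. -/
def row2_66 : List ℤ := [0,0,0,0,0,0,0,0,0,0,0,0,0,0,0,0,0,0,0,0,0,0,0,0,0,0,0,0,0,0,0,-1,-1,0,0,0,0,0,0,0,0,0,1,0,0,0,0,0,0,0,0,0,0,0,1,0,0,0,0,-1,-1,0,-1,0,0,0,0,0,0,-1,-1,0,0,-1,0,-3,-1,1,0,0,0,0,-1,0,0,1,0,0,2,0,1]

/-- Part of the certificate at 2. -/
def row2_67 : List ℤ := [0,0,0,0,0,0,0,0,0,0,0,0,0,0,0,0,0,0,0,0,0,0,0,0,0,0,0,0,0,0,0,-1,0,0,0,0,0,0,0,0,0,0,1,0,0,0,0,0,0,0,0,0,0,0,0,0,0,0,-1,0,0,1,0,0,0,0,0,0,0,-1,-1,0,0,0,0,1,0,0,1,0,0,0,0,0,0,1,0,0,0,0,0]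

/-- Part of the certificate at 2. -/
def row2_68 : List ℤ := [0,0,0,0,0,0,0,0,0,0,0,0,0,0,0,0,0,0,0,0,0,0,0,0,0,0,0,0,0,0,0,0,0,0,0,0,0,0,0,0,0,0,1,0,0,0,0,0,-1,0,0,-1,-1,0,0,1,0,0,0,0,0,0,-1,0,0,0,0,0,0,0,0,0,0,0,0,0,0,0,0,1,0,0,0,0,0,1,0,-1,1,0,0]

/-- Part of the certificate at 2. -/
def row2_69 : List ℤ := [0,0,0,0,0,0,0,0,0,0,0,0,0,0,0,0,0,0,0,0,0,0,0,0,0,0,0,0,0,0,0,0,0,0,0,0,0,0,0,0,0,0,0,0,0,0,0,0,0,0,0,0,0,0,0,0,1,0,0,0,0,-1,0,0,0,0,0,0,0,0,0,0,0,0,0,0,0,0,0,0,1,0,-1,0,0,0,0,0,1,0,0]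

/-- Part of the certificate at 2. -/
def row2_70 : List ℤ := [0,0,0,0,0,0,0,0,0,0,0,0,0,0,0,0,0,0,0,0,0,0,0,0,0,0,0,0,0,0,0,0,0,0,0,0,0,0,0,0,0,0,1,0,0,0,0,0,0,0,0,1,0,0,0,0,0,1,-1,0,0,0,0,0,0,0,0,0,0,0,0,0,0,0,0,0,0,0,0,0,0,1,-1,0,0,1,-1,0,0,0,0]

/-- Part of the certificate at 2. -/
def row2_71 : List ℤ := [0,0,0,0,0,0,0,0,0,0,0,0,0,0,0,0,0,0,0,0,0,0,0,0,0,0,0,0,0,0,0,0,0,0,0,0,0,0,0,0,0,0,0,0,0,0,0,0,0,0,0,1,0,0,0,0,0,0,0,0,0,0,0,0,0,1,0,0,0,0,-1,0,0,0,0,0,0,0,0,0,0,0,0,-1,0,1,0,-1,0,1,0]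

/-- Part of the certificate at 2. -/
def row2_72 : List ℤ := [0,0,0,0,0,0,0,0,0,0,0,0,0,0,0,0,0,0,0,0,0,0,0,0,0,0,0,0,0,0,0,0,0,0,0,0,0,0,0,0,0,0,0,0,0,0,0,0,0,0,0,0,0,0,0,0,0,0,0,-1,0,-1,0,0,0,0,1,0,0,0,-1,0,0,0,0,-1,0,0,0,0,0,0,0,0,0,0,0,0,0,0,0]

/-- Part of the certificate at 2. -/
def row2_73 : List ℤ := [0,0,0,0,0,0,0,0,0,0,0,0,0,0,0,0,0,0,0,0,0,0,0,0,0,0,0,0,0,0,0,0,0,0,0,0,0,0,0,0,0,0,0,0,0,0,0,0,0,-1,0,0,0,0,0,0,0,0,0,0,0,1,0,1,0,0,0,0,0,0,0,0,0,0,-1,-1,0,0,0,0,0,0,0,0,0,1,0,1,-1,1,0]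

/-- Part of the certificate at 2. -/
def row2_74 : List ℤ := [0,0,0,0,0,0,0,0,0,0,0,0,0,0,0,0,0,0,0,0,0,0,0,0,0,0,0,0,0,0,0,0,0,0,0,0,0,0,0,0,0,0,0,0,0,0,0,0,0,0,0,0,0,0,0,0,0,0,0,-1,0,0,0,0,0,0,0,0,1,0,0,0,1,0,0,0,0,0,0,0,0,0,0,-1,0,0,0,0,0,0,0]

/-- Part of the certificate at 2. -/
def row2_75 : List ℤ := [0,0,0,0,0,0,0,0,0,0,0,0,0,1,0,0,0,0,0,1,0,0,0,0,0,0,1,0,0,0,0,0,0,0,0,0,0,0,0,0,0,0,0,0,0,0,0,0,0,0,1,0,0,1,1,0,0,0,0,0,0,1,0,1,1,1,0,0,0,0,0,0,1,0,0,0,1,0,0,0,0,0,0,0,1,0,0,2,3,1,2]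

/-- Part of the certificate at 2. -/
def row2_76 : List ℤ := [1,0,1,0,0,0,0,0,0,0,0,0,0,0,0,2,0,0,0,0,1,2,0,0,0,0,0,1,0,0,0,0,1,1,0,0,0,0,0,0,0,0,0,0,1,0,2,0,0,0,0,1,0,0,0,0,2,0,0,1,1,0,0,2,4,0,1,1,0,0,0,0,1,0,1,5,3,0,0,0,1,0,0,1,1,1,0,1,4,2,4]

/-- Part of the certificate at 2. -/
def row2_77 : List ℤ := [1,-1,-1,0,0,0,0,0,0,0,0,0,0,1,0,-2,0,0,0,0,0,0,0,0,0,0,1,0,-1,0,0,1,0,0,1,0,0,-2,0,0,0,0,-1,0,0,0,-1,0,0,0,0,1,1,0,1,0,-1,0,0,0,0,1,0,1,-2,0,0,-1,0,0,0,0,0,0,-1,1,0,1,0,0,-1,0,0,0,0,0,-1,-1,-4,-3,-1]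

/-- Part of the certificate at 2. -/
def row2_78 : List ℤ := [0,0,0,1,0,0,1,0,0,0,0,0,0,0,1,0,2,0,0,0,0,0,2,0,0,0,0,0,0,2,0,0,0,0,0,0,0,0,2,0,0,0,1,1,0,1,0,0,0,0,0,0,0,1,0,1,0,1,0,0,1,1,3,2,2,0,0,0,1,0,0,2,2,2,0,4,2,0,0,0,0,0,0,1,2,2,3,1,5,4,5]

/-- Part of the certificate at 2. -/
def row2_79 : List ℤ := [0,0,0,0,-1,0,-1,0,0,0,0,0,0,1,0,0,-2,0,0,0,0,0,0,0,0,0,0,0,0,0,0,0,0,0,1,0,0,0,-2,0,0,0,0,0,0,0,0,-1,0,0,0,0,1,0,1,0,0,-1,0,0,0,0,0,-1,0,1,0,0,-2,0,0,0,0,-2,0,1,-1,0,0,0,0,0,0,-1,0,0,0,0,0,0,1]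

/-- Part of the certificate at 2. -/
def row2_80 : List ℤ := [0,0,0,0,0,0,0,0,1,0,0,0,1,0,1,0,0,0,1,0,0,0,0,0,0,0,0,0,0,0,2,1,0,0,0,0,1,0,0,2,0,0,1,1,0,0,0,0,2,0,0,1,2,1,0,1,0,0,1,0,0,0,2,2,3,0,0,0,0,2,1,0,0,0,0,1,1,0,0,1,0,0,1,0,0,0,1,2,3,2,6]

/-- Part of the certificate at 2. -/
def row2_81 : List ℤ := [0,0,0,0,0,0,0,0,0,-1,0,0,-1,0,0,0,0,-2,0,0,0,0,0,0,0,0,0,0,0,0,-1,0,0,0,0,1,0,0,0,-1,-1,0,-2,-1,1,0,0,0,-1,-1,0,0,-1,-1,0,0,0,0,-2,0,0,-1,-1,0,-1,0,1,0,0,-1,0,0,-1,-1,0,-1,0,0,0,0,0,0,0,0,0,-1,-2,-1,-4,-1,-6]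

/-- Part of the certificate at 2. -/
def row2_82 : List ℤ := [2,0,0,0,0,0,0,0,0,0,0,0,0,0,0,1,0,0,0,0,0,1,0,0,0,0,1,0,1,0,0,0,0,1,0,0,0,0,0,0,0,0,0,0,0,0,1,0,0,0,0,2,0,0,1,0,1,0,0,0,1,1,0,0,2,0,0,1,0,0,0,0,0,0,0,2,1,1,0,0,0,0,0,0,1,1,0,1,1,2,4]

/-- Part of the certificate at 2. -/
def row2_83 : List ℤ := [0,0,0,0,0,0,0,0,0,0,0,0,0,0,1,1,0,0,1,0,0,0,0,0,0,0,0,0,0,0,0,0,0,0,0,0,0,1,0,0,2,0,0,0,0,0,1,0,0,2,0,0,0,0,0,0,1,0,0,1,0,0,2,1,2,0,0,1,0,0,2,0,0,0,1,1,1,0,0,0,0,0,0,1,0,0,2,2,3,3,4]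

/-- Part of the certificate at 2. -/
def row2_84 : List ℤ := [0,0,0,0,0,-1,0,0,0,0,0,0,0,0,0,0,1,0,0,0,1,0,0,0,0,1,0,0,0,1,0,0,2,0,0,0,0,0,1,0,0,2,0,0,0,0,0,0,0,0,0,0,0,0,0,0,0,1,0,-1,0,-1,0,0,0,0,0,0,0,0,0,1,1,3,0,2,2,0,0,0,0,1,0,0,0,1,2,0,1,2,1]

/-- Part of the certificate at 2. -/
def row2_85 : List ℤ := [0,0,0,0,0,0,0,0,0,-1,-1,0,0,0,0,0,0,0,0,0,0,-1,0,-1,-1,0,0,0,0,0,0,-2,-1,-1,0,0,-1,-1,0,-1,0,-1,1,-1,0,0,-1,0,-1,0,0,-1,-2,-1,0,0,0,0,1,-1,-3,1,0,-3,-3,0,0,0,0,0,1,-3,1,1,-2,-2,-4,0,0,-1,1,0,0,0,-3,1,-2,-3,-3,0,-3]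

/-- Part of the certificate at 2. -/
def row2_86 : List ℤ := [0,0,0,0,1,1,0,0,0,1,1,0,0,0,0,0,0,-1,0,0,0,1,-1,0,1,0,0,0,1,0,0,3,3,1,0,0,0,0,0,1,-1,0,2,1,0,1,0,0,0,1,1,3,2,1,0,0,2,0,1,0,1,3,-1,2,2,0,0,1,0,1,-1,1,3,1,2,4,4,0,0,0,0,0,1,-1,4,1,1,2,2,4,3]

/-- Part of the certificate at 2. -/
def row2_87 : List ℤ := [0,0,0,1,0,1,0,0,0,0,0,-1,0,0,0,0,0,0,0,0,0,0,0,0,0,0,0,0,1,-2,-2,-1,-1,0,1,0,0,-1,-1,2,-2,-2,0,0,0,0,1,1,-2,-2,0,-1,0,0,0,0,1,-2,1,0,0,3,1,-3,-2,0,0,1,-1,-1,-2,-1,-1,1,3,-1,0,0,0,0,-1,-1,1,-2,0,-1,2,-2,0,0,-2]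

/-- Part of the certificate at 2. -/
def row2_88 : List ℤ := [0,0,0,1,1,0,0,1,1,1,0,1,0,1,1,0,1,0,1,0,1,-1,-1,0,0,1,0,1,-1,0,0,1,3,1,2,0,0,1,1,1,4,5,3,3,1,0,0,0,1,5,3,5,6,2,0,0,0,1,2,2,0,3,8,3,5,1,1,-1,1,2,2,1,2,8,6,5,7,0,-1,1,-1,1,1,0,-3,3,8,13,6,10,12]

/-- Part of the certificate at 2. -/
def row2_89 : List ℤ := [-1,0,0,0,0,1,0,0,0,0,1,0,0,-2,0,1,0,-2,0,-1,0,0,0,-1,-1,0,0,0,1,0,1,1,-1,0,0,0,0,1,-1,0,-2,0,-1,0,0,0,0,0,-3,-3,-1,-2,-1,-3,1,0,0,0,0,1,-3,2,1,-4,-1,0,0,0,0,0,0,0,3,-2,-6,1,-2,1,0,0,0,-1,0,-1,-3,4,0,-8,-1,-4,-6]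

/-- Part of the certificate at 2. -/
def row2_90 : List ℤ := [1,0,0,1,0,0,0,0,0,0,-1,-1,0,0,0,-1,-1,0,0,1,0,0,0,1,1,0,1,0,0,0,0,-1,0,0,1,0,0,0,0,0,-1,0,-1,0,0,0,0,0,0,0,0,-2,-1,1,1,0,0,-1,1,2,1,-1,-1,2,2,-1,0,0,0,0,1,1,-2,-2,1,0,2,0,0,0,0,-1,0,0,1,-1,-1,-1,0,-2,2]

/-- Part of the certificate at 2. -/
def combo2_0 : ℤ × List (ℕ × ℤ) := (2, [(0,1),(1,2),(2,3),(3,2),(5,2),(6,2),(7,3),(8,3),(11,2),(13,3),(14,3),(15,3),(16,2),(17,2),(18,1),(19,1),(20,3),(22,2),(23,3),(24,1),(25,3),(26,2),(27,2),(28,1),(30,3),(32,2),(34,3),(35,1),(36,3),(37,1),(38,2),(39,3),(40,3),(41,3),(43,1),(44,2),(45,1),(47,1),(48,1),(49,3),(52,1),(54,3),(55,2),(56,3),(59,2),(60,2),(61,3),(62,1),(63,2),(64,3),(65,2),(66,2),(68,1),(70,1),(71,1),(73,3),(74,1),(75,1),(78,3),(79,3),(80,1),(81,1),(82,1),(83,3),(84,1),(85,2),(87,2),(88,3),(89,1)])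

/-- Part of the certificate at 2. -/
def combo2_1 : ℤ × List (ℕ × ℤ) := (0, [(0,2),(2,3),(3,1),(4,3),(5,1),(7,2),(10,3),(11,2),(14,2),(15,3),(16,3),(17,1),(18,3),(19,1),(20,1),(21,1),(22,2),(24,1),(25,1),(26,1),(27,1),(28,2),(29,2),(31,2),(32,1),(33,3),(35,1),(36,3),(37,3),(38,2),(39,3),(40,3),(41,1),(42,2),(43,1),(44,1),(45,2),(48,1),(49,3),(50,2),(51,1),(52,1),(53,3),(54,1),(55,1),(56,3),(57,1),(58,3),(59,1),(60,2),(62,1),(63,1),(64,1),(65,3),(67,2),(68,3),(71,3),(72,3),(74,2),(75,1),(76,3),(77,3),(80,2),(81,2),(82,1),(83,2),(84,2),(85,2),(86,2),(87,2),(88,2)])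

/-- Part of the certificate at 2. -/
def combo2_2 : ℤ × List (ℕ × ℤ) := (2, [(4,1),(5,1),(7,2),(8,1),(9,1),(10,1),(11,1),(13,2),(15,3),(16,3),(18,3),(19,2),(20,1),(21,1),(24,1),(27,1),(28,1),(29,2),(30,1),(31,3),(32,3),(33,2),(34,3),(35,1),(36,1),(37,2),(38,2),(39,2),(40,3),(41,1),(42,1),(43,3),(44,3),(45,2),(46,1),(47,3),(48,1),(49,2),(50,3),(51,1),(52,1),(54,1),(56,2),(57,2),(58,2),(60,3),(61,1),(62,1),(63,2),(64,2),(65,3),(66,1),(67,1),(68,3),(69,1),(71,1),(72,2),(73,3),(74,1),(76,1),(78,1),(79,1),(85,1),(86,1),(87,3),(89,1)])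

/-- Part of the certificate at 2. -/
def combo2_3 : ℤ × List (ℕ × ℤ) := (2, [(0,3),(1,2),(2,2),(3,1),(4,3),(5,1),(6,3),(7,1),(8,2),(11,1),(13,2),(14,1),(15,3),(16,1),(17,2),(19,3),(20,2),(21,1),(23,1),(25,1),(27,3),(28,2),(29,2),(30,1),(31,3),(34,3),(35,3),(36,2),(37,2),(40,3),(41,1),(43,1),(44,1),(45,3),(46,2),(47,2),(48,3),(49,1),(50,3),(51,1),(52,1),(55,1),(56,3),(57,1),(58,2),(59,1),(60,2),(61,2),(62,2),(63,3),(64,2),(65,3),(66,2),(67,3),(69,1),(70,1),(72,1),(73,1),(75,1),(80,3),(81,3),(83,1),(84,3),(85,1),(86,3),(88,1)])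

/-- Part of the certificate at 2. -/
def combo2_4 : ℤ × List (ℕ × ℤ) := (0, [(0,1),(1,2),(2,2),(3,3),(4,3),(5,1),(6,2),(8,3),(9,1),(11,1),(13,1),(14,3),(17,1),(18,3),(19,1),(20,3),(21,2),(23,2),(24,3),(25,2),(26,1),(27,2),(28,1),(29,3),(30,1),(33,2),(34,2),(35,3),(37,1),(40,2),(41,3),(42,2),(43,3),(44,1),(45,2),(46,2),(47,1),(48,1),(49,1),(50,1),(52,2),(53,1),(55,2),(56,1),(57,2),(59,2),(62,1),(66,1),(67,1),(68,1),(72,1),(73,1),(74,1),(75,1),(78,2),(79,2),(80,1),(81,1),(83,3),(84,1),(85,2),(87,3),(88,3)])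

/-- Part of the certificate at 2. -/
def combo2_5 : ℤ × List (ℕ × ℤ) := (1, [(0,2),(1,2),(3,2),(4,3),(5,2),(8,1),(11,3),(13,1),(15,3),(16,3),(18,2),(19,2),(20,1),(23,2),(24,1),(25,1),(27,2),(29,1),(30,1),(31,3),(32,1),(33,1),(34,3),(35,3),(36,3),(37,1),(38,2),(39,1),(40,1),(43,2),(44,3),(45,2),(48,3),(49,2),(50,3),(51,3),(52,3),(53,1),(54,2),(55,1),(57,2),(59,1),(60,3),(61,2),(62,1),(63,2),(64,2),(65,3),(66,2),(67,2),(68,1),(69,1),(70,3),(71,1),(72,2),(73,1),(74,1),(75,1),(78,1),(79,1),(80,2),(81,2),(83,2),(84,2),(85,3),(86,3),(87,1),(88,2)])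

/-- Part of the certificate at 2. -/
def combo2_6 : ℤ × List (ℕ × ℤ) := (0, [(0,1),(1,1),(2,3),(3,3),(4,2),(5,2),(6,2),(7,2),(8,3),(13,3),(14,2),(15,2),(17,3),(19,3),(20,2),(21,1),(22,1),(23,1),(24,2),(26,1),(28,1),(29,1),(30,3),(31,3),(34,3),(35,2),(36,2),(37,2),(38,3),(39,2),(40,2),(41,3),(42,1),(43,3),(44,2),(45,3),(46,3),(47,2),(51,1),(52,3),(54,1),(55,2),(56,1),(57,2),(58,3),(59,2),(60,2),(61,3),(62,2),(64,2),(65,1),(68,3),(69,1),(70,3),(71,3),(73,3),(74,1),(75,2),(78,1),(80,1),(81,1),(83,3),(84,1),(85,3),(86,1),(88,3)])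

/-- Part of the certificate at 2. -/
def combo2_7 : ℤ × List (ℕ × ℤ) := (1, [(0,3),(2,2),(3,1),(4,3),(5,2),(6,1),(8,3),(9,2),(11,3),(12,3),(13,2),(14,3),(15,2),(16,1),(17,2),(18,1),(19,2),(20,3),(21,1),(22,2),(23,2),(24,3),(26,1),(27,2),(29,1),(30,2),(32,2),(33,3),(34,3),(36,1),(38,1),(39,3),(40,2),(41,2),(43,3),(44,2),(46,2),(47,2),(48,2),(49,2),(51,2),(53,3),(55,3),(56,3),(57,1),(58,1),(59,2),(62,2),(63,1),(64,1),(66,1),(67,3),(69,2),(70,1),(71,2),(72,3),(73,1),(74,3),(75,3),(78,1),(79,1),(80,2),(81,2),(82,1),(83,1),(84,2),(85,3),(86,3),(87,1),(88,2),(89,2)])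

/-- Part of the certificate at 2. -/
def combo2_8 : ℤ × List (ℕ × ℤ) := (0, [(0,3),(1,1),(2,1),(4,1),(5,2),(6,3),(7,2),(8,3),(9,2),(11,1),(12,3),(13,1),(14,1),(15,1),(16,3),(18,1),(19,3),(20,2),(22,3),(24,1),(26,3),(27,3),(28,3),(29,1),(30,1),(32,1),(33,1),(34,1),(35,2),(36,3),(37,2),(38,1),(39,1),(41,2),(42,1),(43,2),(44,3),(45,2),(46,1),(47,2),(48,1),(49,2),(50,3),(52,2),(53,2),(54,2),(55,3),(57,3),(59,2),(60,2),(61,1),(62,2),(63,3),(64,2),(65,1),(67,1),(68,2),(70,3),(72,3),(74,3),(75,3),(78,3),(79,3),(84,3),(85,3),(86,2),(88,1)])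

/-- Part of the certificate at 2. -/
def combo2_9 : ℤ × List (ℕ × ℤ) := (0, [(0,3),(1,1),(2,2),(4,2),(5,2),(6,3),(7,2),(8,2),(11,1),(12,3),(13,3),(14,1),(16,1),(17,3),(18,2),(20,1),(23,2),(25,1),(26,2),(27,1),(29,3),(30,2),(31,2),(33,3),(34,3),(36,1),(37,1),(38,3),(41,2),(42,1),(43,2),(44,2),(46,1),(48,1),(49,1),(50,2),(51,3),(52,2),(54,1),(55,2),(56,1),(57,3),(58,2),(59,2),(60,1),(61,2),(65,1),(67,1),(68,2),(69,1),(70,3),(71,1),(72,1),(73,1),(75,2),(78,3),(79,3),(80,3),(81,3),(83,1),(84,3),(85,3),(86,2),(88,1)])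

/-- Part of the certificate at 2. -/
def combo2_10 : ℤ × List (ℕ × ℤ) := (0, [(1,1),(3,3),(4,2),(5,1),(7,2),(8,2),(14,1),(15,1),(16,1),(17,2),(18,1),(19,1),(20,2),(21,1),(22,2),(23,1),(24,1),(26,1),(27,1),(29,1),(30,1),(31,1),(32,2),(33,2),(34,3),(35,1),(36,3),(38,2),(40,1),(41,2),(42,1),(43,2),(44,1),(46,1),(47,1),(48,2),(49,2),(50,1),(51,1),(54,3),(55,1),(56,3),(58,1),(59,2),(60,1),(61,1),(62,1),(63,1),(65,2),(67,3),(68,1),(69,3),(72,2),(73,2),(74,3),(82,1),(89,2)])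

/-- Part of the certificate at 2. -/
def combo2_11 : ℤ × List (ℕ × ℤ) := (0, [(0,1),(2,2),(3,3),(4,2),(5,2),(6,3),(7,2),(8,1),(13,3),(14,1),(17,2),(18,1),(19,3),(20,3),(21,1),(22,2),(23,2),(24,3),(25,3),(28,1),(29,2),(31,1),(32,3),(36,1),(37,3),(39,3),(41,1),(42,3),(43,2),(44,1),(48,2),(49,2),(50,2),(52,1),(53,3),(54,3),(56,2),(58,3),(60,3),(64,1),(65,1),(66,2),(67,1),(68,2),(69,2),(70,3),(74,2),(75,2),(78,1),(79,1),(80,1),(81,1),(83,3),(84,1),(86,2),(88,3)])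

/-- Part of the certificate at 2. -/
def combo2_12 : ℤ × List (ℕ × ℤ) := (0, [(0,2),(3,3),(5,1),(8,2),(9,1),(13,2),(14,2),(15,1),(16,1),(17,2),(19,3),(20,2),(22,2),(25,3),(26,2),(27,3),(28,3),(29,3),(30,3),(32,3),(33,3),(34,2),(35,3),(36,1),(37,1),(39,3),(40,3),(41,1),(42,1),(43,3),(44,1),(45,2),(46,2),(48,2),(50,3),(52,3),(53,2),(54,3),(56,1),(57,1),(58,2),(60,1),(61,1),(62,2),(63,3),(64,1),(65,2),(66,2),(68,2),(69,2),(70,3),(71,1),(78,2),(79,2),(80,2),(81,1),(83,2),(84,2),(85,1),(88,2)])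

/-- Part of the certificate at 2. -/
def combo2_13 : ℤ × List (ℕ × ℤ) := (3, [(0,2),(1,3),(2,1),(3,2),(4,1),(5,2),(7,3),(8,3),(9,3),(11,1),(13,3),(14,1),(15,1),(16,1),(18,2),(19,1),(20,2),(21,2),(24,3),(25,1),(27,3),(28,2),(29,3),(30,1),(31,1),(32,1),(33,3),(34,2),(35,1),(36,1),(37,3),(38,1),(39,2),(40,2),(41,3),(42,2),(43,2),(44,1),(46,2),(48,3),(49,3),(50,3),(51,2),(52,3),(53,3),(54,1),(55,2),(56,1),(58,1),(59,1),(60,1),(63,2),(65,3),(67,1),(68,3),(69,3),(70,1),(72,3),(73,3),(75,3),(78,3),(79,3),(80,2),(81,2),(83,2),(84,2),(85,1),(86,1),(87,3),(88,2)])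

/-- Part of the certificate at 2. -/
def combo2_14 : ℤ × List (ℕ × ℤ) := (0, [(2,3),(4,3),(7,2),(12,3),(13,3),(14,1),(16,3),(18,3),(19,1),(21,2),(22,1),(23,3),(24,3),(25,3),(26,2),(28,1),(29,1),(30,2),(31,3),(32,1),(34,1),(35,2),(36,1),(38,3),(39,1),(43,1),(44,1),(45,1),(46,1),(47,3),(48,1),(50,2),(52,2),(53,2),(56,2),(58,1),(59,3),(60,3),(62,3),(63,2),(64,1),(65,1),(66,3),(67,3),(68,2),(70,2),(72,3),(73,2),(74,1),(75,1)])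

/-- Part of the certificate at 2. -/
def combo2_15 : ℤ × List (ℕ × ℤ) := (0, [(0,1),(1,1),(2,1),(3,3),(4,1),(6,2),(7,2),(8,1),(9,3),(14,2),(15,1),(16,2),(17,1),(18,3),(22,3),(23,3),(24,1),(25,3),(27,1),(28,3),(29,2),(30,1),(32,1),(33,1),(36,3),(37,3),(38,3),(40,3),(41,3),(42,1),(43,3),(44,3),(45,1),(46,1),(47,3),(49,1),(50,3),(51,2),(54,1),(55,3),(56,1),(57,3),(58,1),(59,2),(60,2),(61,3),(62,2),(63,1),(64,3),(65,3),(67,3),(68,3),(69,3),(70,2),(71,3),(73,3),(75,3),(78,1),(79,1),(80,1),(81,1),(83,3),(84,1),(86,2),(88,3)])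

/-- Part of the certificate at 2. -/
def combo2_16 : ℤ × List (ℕ × ℤ) := (0, [(1,2),(7,1),(8,3),(9,2),(14,2),(15,1),(16,1),(19,3),(20,2),(22,1),(23,3),(26,1),(27,3),(29,2),(30,3),(31,1),(32,2),(33,2),(35,1),(36,3),(38,2),(39,1),(40,3),(41,2),(42,1),(44,1),(45,1),(46,2),(47,1),(49,2),(50,1),(52,3),(53,1),(54,3),(55,3),(56,1),(57,1),(59,2),(63,1),(64,2),(65,1),(67,1),(68,2),(69,3),(73,2),(74,1)])

/-- Part of the certificate at 2. -/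
def combo2_17 : ℤ × List (ℕ × ℤ) := (0, [(0,2),(1,2),(3,2),(5,2),(9,3),(13,2),(15,3),(16,3),(17,3),(19,2),(21,3),(22,2),(23,2),(25,2),(26,2),(27,1),(29,3),(30,3),(33,3),(34,1),(35,2),(36,3),(37,3),(40,3),(41,3),(42,2),(43,1),(45,1),(46,3),(48,3),(49,1),(51,3),(52,3),(53,2),(54,3),(56,1),(59,2),(60,2),(61,3),(62,2),(63,2),(64,1),(65,3),(67,1),(68,1),(70,1),(71,1),(73,2),(74,2),(78,2),(79,2),(80,2),(81,2),(83,2),(84,2),(88,2)])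

/-- Part of the certificate at 2. -/
def combo2_18 : ℤ × List (ℕ × ℤ) := (0, [(0,3),(3,1),(6,2),(7,2),(12,1),(14,2),(15,2),(16,3),(17,3),(18,2),(19,1),(21,1),(22,3),(23,3),(24,3),(25,2),(26,2),(28,2),(30,3),(31,2),(32,1),(33,3),(34,3),(35,2),(37,1),(39,1),(40,3),(44,2),(46,1),(47,2),(48,3),(49,3),(50,2),(51,1),(52,1),(53,3),(54,3),(57,1),(58,2),(59,2),(60,1),(61,3),(62,2),(63,3),(64,3),(67,1),(68,1),(69,2),(70,1),(71,3),(74,3),(78,3),(79,3),(80,3),(81,3),(83,2),(84,3),(86,2),(88,1)])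

/-- Part of the certificate at 2. -/
def combo2_19 : ℤ × List (ℕ × ℤ) := (1, [(0,3),(1,2),(2,2),(3,1),(4,2),(5,1),(6,2),(8,2),(9,2),(11,3),(13,1),(14,1),(15,3),(16,3),(17,2),(19,2),(20,3),(21,3),(22,2),(24,2),(25,1),(27,2),(28,1),(30,2),(32,2),(33,3),(35,1),(37,1),(38,1),(40,2),(41,1),(42,3),(43,2),(46,2),(48,2),(50,2),(51,2),(52,3),(53,1),(54,3),(55,1),(57,2),(60,1),(61,2),(62,3),(63,3),(64,2),(67,2),(68,1),(69,1),(70,3),(72,3),(73,3),(74,1),(75,3),(78,2),(79,2),(80,3),(81,3),(83,1),(84,3),(85,3),(86,1),(87,1),(88,1)])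

/-- Part of the certificate at 2. -/
def combo2_20 : ℤ × List (ℕ × ℤ) := (0, [(1,2),(2,2),(3,3),(4,2),(7,1),(8,2),(10,3),(11,1),(13,1),(14,1),(16,1),(17,1),(18,2),(20,2),(21,3),(24,2),(25,3),(26,2),(28,3),(29,2),(30,2),(32,2),(34,1),(36,3),(38,1),(39,1),(40,3),(41,2),(43,1),(44,2),(45,1),(46,2),(47,3),(49,2),(50,3),(51,2),(52,2),(54,1),(55,2),(56,3),(57,2),(58,1),(59,3),(60,1),(61,1),(62,1),(66,2),(67,1),(68,1),(69,1),(70,2),(71,2),(73,2),(74,1),(75,2),(78,1),(79,1),(85,1),(86,1),(87,3)])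

/-- Part of the certificate at 2. -/
def combo2_21 : ℤ × List (ℕ × ℤ) := (0, [(1,3),(7,3),(9,3),(13,2),(14,3),(15,2),(16,1),(20,3),(21,2),(22,2),(23,2),(24,3),(25,1),(26,1),(27,1),(28,3),(30,2),(33,2),(34,1),(35,1),(36,3),(39,1),(40,2),(41,1),(44,3),(46,1),(47,1),(48,1),(49,1),(51,1),(53,1),(55,1),(56,2),(57,1),(58,3),(60,2),(62,1),(63,3),(64,2),(67,1),(68,1),(69,1),(70,3),(71,2),(73,2),(74,3)])

/-- Part of the certificate at 2. -/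
def combo2_22 : ℤ × List (ℕ × ℤ) := (1, [(5,3),(7,2),(9,3),(13,2),(16,3),(18,3),(19,2),(20,2),(23,1),(25,2),(26,1),(27,1),(31,1),(32,1),(33,2),(34,2),(35,2),(38,1),(40,2),(42,2),(43,3),(44,3),(45,1),(46,2),(47,3),(48,3),(49,2),(51,2),(52,3),(53,1),(54,3),(55,3),(57,1),(58,1),(59,3),(60,1),(62,1),(63,2),(64,2),(65,1),(66,3),(69,2),(70,1),(71,1),(73,2),(74,2)])

/-- Part of the certificate at 2. -/
def combo2_23 : ℤ × List (ℕ × ℤ) := (0, [(0,1),(1,1),(2,2),(3,3),(4,2),(5,2),(6,2),(7,1),(8,3),(9,3),(14,2),(15,2),(16,3),(17,2),(18,1),(19,1),(20,1),(21,1),(23,1),(25,1),(26,2),(28,2),(30,1),(34,2),(35,1),(36,2),(37,3),(38,1),(40,3),(42,2),(43,2),(44,3),(45,2),(49,2),(50,2),(51,1),(52,1),(54,1),(55,2),(60,2),(61,2),(62,3),(64,3),(65,2),(66,3),(67,1),(68,1),(69,2),(73,1),(74,2),(75,2),(78,1),(79,1),(80,1),(81,1),(83,3),(84,1),(86,2),(88,3)])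

/-- Part of the certificate at 2. -/
def combo2_24 : ℤ × List (ℕ × ℤ) := (0, [(1,1),(7,2),(14,1),(19,3),(20,3),(24,2),(25,1),(27,1),(29,3),(30,3),(34,2),(38,3),(39,2),(41,3),(42,1),(44,2),(45,1),(46,2),(48,3),(49,2),(50,3),(51,1),(52,1),(53,3),(54,3),(55,2),(56,3),(57,2),(58,1),(59,2),(61,1),(62,3),(63,3),(64,3),(65,2),(66,2),(67,2),(69,1),(70,2),(71,2),(72,3),(73,1),(74,1)])

/-- Part of the certificate at 2. -/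
def combo2_25 : ℤ × List (ℕ × ℤ) := (1, [(0,2),(2,2),(3,3),(4,1),(5,3),(8,2),(9,1),(10,1),(11,2),(13,1),(14,3),(15,2),(17,3),(18,1),(19,3),(20,2),(21,1),(22,3),(23,1),(24,2),(26,1),(27,1),(28,3),(29,2),(30,2),(32,3),(35,3),(36,2),(37,1),(38,2),(40,2),(41,3),(42,3),(44,2),(45,2),(46,3),(47,3),(49,1),(50,3),(51,3),(52,3),(53,3),(54,2),(56,3),(57,2),(60,1),(61,1),(62,2),(65,3),(66,3),(67,1),(68,3),(69,3),(70,2),(71,2),(72,1),(73,2),(75,3),(80,2),(81,2),(83,2),(84,3),(85,2),(86,2),(87,2),(88,2)])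

/-- Part of the certificate at 2. -/
def combo2_26 : ℤ × List (ℕ × ℤ) := (0, [(0,1),(1,1),(2,1),(3,3),(4,1),(5,3),(6,2),(7,2),(8,2),(9,2),(13,2),(14,2),(17,1),(18,2),(19,1),(20,3),(21,1),(22,2),(23,1),(26,2),(27,3),(28,3),(29,2),(30,2),(31,2),(32,2),(33,3),(35,1),(36,1),(37,3),(38,1),(39,1),(40,3),(41,3),(42,3),(43,1),(44,2),(45,3),(46,2),(47,1),(48,1),(50,3),(52,3),(53,3),(56,2),(58,2),(59,2),(60,3),(62,2),(63,2),(64,1),(65,3),(67,1),(68,1),(69,1),(70,3),(71,1),(72,3),(74,1),(75,3),(78,1),(79,1),(80,1),(81,1),(83,3),(84,1),(86,2),(88,3)])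

/-- Part of the certificate at 2. -/
def combo2_27 : ℤ × List (ℕ × ℤ) := (0, [(0,1),(1,1),(2,1),(3,3),(4,1),(5,1),(6,2),(7,2),(8,2),(13,2),(14,3),(15,1),(17,1),(19,1),(20,2),(21,3),(22,3),(24,3),(27,3),(33,3),(35,1),(36,1),(37,3),(39,2),(40,1),(42,1),(43,1),(44,2),(46,1),(47,1),(48,2),(49,3),(53,2),(55,2),(56,3),(57,2),(59,1),(61,2),(63,1),(64,1),(65,1),(66,3),(68,2),(69,3),(70,1),(72,3),(73,3),(74,2),(75,3),(78,1),(79,1),(80,1),(81,1),(83,3),(84,1),(86,2),(88,3)])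

/-- Part of the certificate at 2. -/
def combo2_28 : ℤ × List (ℕ × ℤ) := (0, [(1,1),(7,1),(8,3),(9,2),(14,1),(15,2),(16,2),(20,3),(22,2),(23,2),(24,2),(25,1),(26,2),(28,1),(29,2),(30,2),(31,2),(33,3),(34,3),(35,1),(36,2),(38,3),(41,3),(42,2),(44,3),(45,1),(46,1),(47,2),(48,3),(49,1),(50,3),(51,2),(52,3),(55,2),(57,2),(58,1),(60,1),(61,1),(62,3),(63,1),(64,2),(65,2),(66,1),(67,1),(68,1),(69,2),(70,1),(71,3),(73,2),(74,1)])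

/-- Part of the certificate at 2. -/
def combo2_29 : ℤ × List (ℕ × ℤ) := (0, [(1,1),(5,2),(7,1),(9,2),(13,1),(14,1),(15,1),(18,2),(19,2),(20,2),(21,2),(22,1),(25,1),(26,2),(29,1),(30,1),(32,2),(35,3),(38,2),(39,1),(40,2),(45,3),(48,2),(49,1),(50,2),(52,2),(53,2),(54,3),(58,1),(59,1),(60,2),(61,1),(62,1),(63,2),(64,1),(66,2),(68,1),(69,1),(71,3),(72,3),(73,2),(74,1)])

/-- Part of the certificate at 2. -/
def combo2_30 : ℤ × List (ℕ × ℤ) := (0, [(1,2),(5,1),(7,3),(9,1),(13,2),(14,2),(15,1),(18,1),(19,1),(21,1),(22,1),(23,2),(24,3),(25,2),(26,2),(27,1),(29,1),(30,2),(31,2),(32,1),(33,1),(35,2),(38,1),(39,1),(40,1),(41,3),(42,1),(43,2),(45,2),(49,3),(50,2),(51,2),(52,1),(55,1),(56,2),(59,3),(60,1),(61,3),(62,1),(63,2),(64,1),(65,1),(66,3),(67,1),(68,2),(69,1),(70,3),(71,3),(72,3),(73,2),(74,1)])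

/-- Part of the certificate at 2. -/
def combo2_31 : ℤ × List (ℕ × ℤ) := (0, [(1,1),(7,1),(9,1),(13,3),(14,1),(15,2),(16,3),(21,2),(22,2),(23,3),(24,3),(25,1),(26,2),(27,3),(28,2),(29,3),(30,3),(33,1),(34,2),(35,1),(36,1),(38,1),(39,2),(40,1),(41,2),(44,2),(45,2),(46,3),(47,3),(48,2),(49,2),(50,2),(51,2),(54,2),(57,3),(58,2),(59,1),(61,3),(62,3),(63,2),(64,2),(65,3),(66,3),(67,3),(68,3),(70,2),(71,2),(72,1),(73,1),(74,1)])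

/-- Part of the certificate at 2. -/
def combo2_32 : ℤ × List (ℕ × ℤ) := (0, [(1,3),(5,2),(7,1),(8,3),(13,2),(14,3),(15,1),(18,2),(19,3),(20,3),(22,1),(23,3),(24,3),(25,3),(26,3),(28,3),(30,1),(33,2),(35,3),(38,1),(41,2),(42,2),(44,3),(45,3),(46,2),(48,2),(49,1),(50,3),(52,3),(53,1),(55,3),(56,3),(57,3),(60,2),(61,1),(62,1),(63,2),(65,2),(66,2),(67,2),(71,2),(73,3),(74,1)])

/-- Part of the certificate at 2. -/
def combo2_33 : ℤ × List (ℕ × ℤ) := (0, [(1,3),(3,2),(4,2),(8,2),(9,2),(13,2),(14,3),(15,3),(17,2),(19,3),(22,1),(23,3),(24,3),(26,2),(28,1),(29,2),(30,1),(31,1),(32,2),(33,3),(34,1),(35,1),(38,1),(39,2),(40,3),(42,3),(44,3),(45,1),(46,1),(48,1),(50,1),(51,3),(52,3),(53,3),(54,1),(55,1),(56,1),(57,3),(58,3),(59,3),(60,3),(62,1),(63,2),(64,2),(65,3),(66,2),(67,3),(68,3),(71,1),(72,3),(74,3),(82,3),(89,2)])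

/-- Part of the certificate at 2. -/
def combo2_34 : ℤ × List (ℕ × ℤ) := (1, [])

/-- Part of the certificate at 2. -/
def combo2_35 : ℤ × List (ℕ × ℤ) := (0, [(0,1),(1,2),(2,2),(3,3),(4,2),(5,2),(6,2),(7,2),(9,2),(13,2),(14,3),(15,1),(16,3),(17,2),(18,1),(19,2),(20,2),(22,3),(23,2),(24,1),(25,3),(28,2),(30,2),(31,1),(33,1),(34,3),(35,2),(36,2),(38,1),(39,3),(40,1),(41,1),(42,2),(43,2),(44,2),(45,3),(46,2),(47,3),(48,1),(49,3),(51,2),(52,1),(53,2),(54,1),(55,2),(56,1),(57,1),(58,3),(59,1),(60,3),(61,1),(62,3),(64,3),(66,1),(67,3),(68,2),(69,3),(72,2),(73,3),(74,1),(75,2),(78,1),(79,1),(80,1),(81,1),(83,3),(84,1),(86,2),(88,3)])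

/-- Part of the certificate at 2. -/
def combo2_36 : ℤ × List (ℕ × ℤ) := (0, [(1,1),(5,2),(8,1),(9,3),(13,1),(14,1),(15,2),(16,3),(18,3),(19,1),(20,2),(22,2),(24,3),(28,1),(29,1),(31,3),(32,1),(33,2),(34,3),(35,2),(36,1),(38,2),(39,1),(40,1),(42,3),(43,3),(44,2),(45,3),(47,3),(49,2),(50,2),(51,3),(54,3),(55,3),(57,2),(58,1),(59,1),(60,1),(61,1),(63,2),(64,3),(65,3),(66,3),(67,3),(68,1),(69,3),(70,3),(71,3),(74,2)])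

/-- Part of the certificate at 2. -/
def combo2_37 : ℤ × List (ℕ × ℤ) := (0, [(1,1),(5,1),(8,1),(9,3),(13,1),(14,1),(15,2),(16,3),(18,1),(19,2),(20,2),(22,2),(24,1),(25,3),(28,3),(29,3),(31,2),(32,2),(35,2),(36,1),(39,1),(40,1),(41,1),(42,2),(43,2),(45,3),(47,3),(48,2),(49,1),(51,2),(52,1),(53,3),(54,3),(55,2),(56,2),(57,3),(58,2),(59,1),(63,2),(64,1),(65,3),(66,2),(67,3),(68,2),(69,2),(70,3),(73,2),(74,3)])

/-- Part of the certificate at 2. -/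
def combo2_38 : ℤ × List (ℕ × ℤ) := (0, [(1,2),(5,1),(7,1),(8,2),(9,2),(13,2),(14,2),(16,1),(18,1),(19,2),(21,1),(23,1),(24,3),(26,2),(27,2),(28,2),(29,2),(30,3),(31,1),(32,3),(34,1),(36,3),(40,1),(41,3),(42,3),(43,1),(44,2),(47,1),(50,3),(51,2),(52,1),(54,1),(55,3),(56,3),(57,1),(58,3),(59,3),(60,2),(64,1),(65,1),(66,3),(67,2),(68,2),(69,3),(70,1),(72,2),(73,1),(74,3)])

/-- Part of the certificate at 2. -/
def combo2_39 : ℤ × List (ℕ × ℤ) := (0, [(1,3),(5,1),(8,2),(9,2),(13,3),(14,3),(15,3),(16,1),(18,1),(19,2),(20,2),(21,1),(22,3),(23,2),(24,3),(25,1),(26,3),(27,3),(28,3),(31,1),(33,2),(34,3),(35,3),(36,3),(39,3),(40,1),(41,1),(42,3),(43,2),(44,3),(46,2),(48,1),(49,1),(50,1),(51,1),(52,3),(53,1),(55,2),(56,1),(57,3),(58,2),(59,1),(61,1),(62,1),(63,3),(64,3),(65,1),(66,1),(69,2),(70,1),(71,3),(72,1),(73,2),(74,1)])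

/-- Part of the certificate at 2. -/
def combo2_40 : ℤ × List (ℕ × ℤ) := (0, [(5,3),(7,1),(8,3),(13,2),(18,3),(19,1),(20,2),(23,2),(24,1),(25,3),(26,3),(27,3),(28,3),(29,1),(30,1),(31,3),(33,1),(34,3),(35,3),(38,3),(39,2),(40,2),(41,1),(42,3),(43,2),(44,3),(45,3),(46,3),(48,2),(49,1),(50,1),(51,1),(52,3),(55,2),(56,3),(57,1),(58,3),(59,1),(61,1),(62,2),(63,2),(64,2),(65,2),(66,1),(69,1),(70,3),(71,3),(74,1)])

/-- Part of the certificate at 2. -/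
def combo2_41 : ℤ × List (ℕ × ℤ) := (0, [(1,3),(9,1),(13,3),(14,3),(15,3),(16,3),(19,3),(20,2),(21,2),(22,3),(24,1),(26,1),(27,2),(28,3),(29,2),(30,3),(33,2),(34,3),(35,1),(36,1),(38,2),(39,2),(40,2),(42,3),(44,2),(45,3),(47,3),(48,3),(49,3),(50,2),(51,1),(52,2),(55,1),(56,3),(58,3),(60,2),(61,3),(62,2),(63,1),(64,2),(65,3),(66,3),(68,2),(69,3),(71,3),(72,1),(74,1)])

/-- Part of the certificate at 2. -/
def combo2_42 : ℤ × List (ℕ × ℤ) := (0, [(1,2),(5,2),(8,1),(14,2),(15,1),(16,2),(18,2),(20,2),(21,2),(22,1),(23,2),(24,2),(25,3),(26,3),(27,3),(28,3),(29,2),(30,3),(31,2),(32,2),(33,1),(34,3),(35,3),(36,2),(38,3),(39,2),(40,1),(41,3),(42,3),(44,1),(45,1),(47,2),(49,2),(50,2),(51,3),(52,3),(53,3),(54,2),(55,2),(56,3),(57,2),(58,3),(59,3),(60,3),(61,1),(62,3),(63,2),(64,2),(65,1),(66,3),(68,2),(70,2),(71,3),(72,2),(73,2),(74,2)])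

/-- Part of the certificate at 2. -/
def combo2_43 : ℤ × List (ℕ × ℤ) := (0, [(0,2),(1,1),(3,2),(5,2),(6,3),(7,3),(8,2),(9,2),(11,3),(12,1),(14,2),(16,3),(17,2),(19,2),(22,3),(23,3),(24,1),(25,1),(27,2),(29,1),(32,1),(33,2),(34,3),(35,2),(37,3),(38,1),(39,1),(40,3),(41,3),(42,3),(43,2),(44,1),(45,2),(46,3),(47,1),(48,1),(49,2),(52,2),(53,2),(54,1),(55,1),(56,1),(58,2),(59,3),(60,2),(61,1),(62,3),(63,3),(64,3),(65,2),(67,2),(68,3),(69,3),(70,2),(71,1),(72,3),(74,1),(78,2),(79,2),(80,2),(81,2),(83,2),(84,2),(88,2)])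

/-- Part of the certificate at 2. -/
def combo2_44 : ℤ × List (ℕ × ℤ) := (0, [(1,2),(5,1),(7,2),(8,3),(13,2),(14,2),(15,1),(16,2),(18,1),(19,1),(21,2),(22,1),(23,2),(24,3),(27,3),(28,1),(29,3),(31,2),(32,2),(34,2),(35,3),(36,2),(38,3),(39,1),(40,2),(41,2),(42,2),(43,2),(46,1),(47,2),(48,1),(49,3),(50,1),(52,3),(53,2),(56,2),(57,2),(58,1),(59,3),(61,2),(62,3),(63,3),(65,1),(67,3),(68,3),(70,2),(71,1),(72,3),(73,2),(74,3)])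

/-- Part of the certificate at 2. -/
def combo2_45 : ℤ × List (ℕ × ℤ) := (0, [(1,1),(5,1),(7,3),(9,3),(13,1),(14,1),(16,3),(18,1),(19,2),(20,2),(23,3),(24,1),(27,3),(28,2),(29,1),(30,3),(31,2),(32,3),(33,1),(34,2),(35,3),(36,1),(39,3),(40,1),(43,2),(44,2),(45,2),(46,3),(47,3),(48,1),(51,2),(52,1),(53,2),(54,3),(55,3),(57,2),(59,2),(60,2),(61,1),(62,2),(63,2),(64,3),(65,1),(66,2),(67,2),(69,3),(70,1),(71,3),(72,1),(73,2)])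

/-- Part of the certificate at 2. -/
def combo2_46 : ℤ × List (ℕ × ℤ) := (0, [(1,2),(5,3),(7,2),(8,3),(14,2),(15,3),(16,1),(18,3),(20,2),(21,3),(22,3),(23,1),(24,1),(25,1),(26,2),(30,3),(31,1),(32,1),(33,1),(34,3),(35,1),(36,3),(39,1),(40,1),(41,2),(42,2),(43,2),(44,2),(45,2),(47,1),(48,2),(49,3),(50,2),(51,1),(52,2),(53,3),(54,1),(55,3),(56,2),(57,1),(58,2),(60,2),(61,2),(62,3),(63,3),(64,2),(65,1),(66,3),(67,1),(69,3),(70,3),(71,1),(72,1)])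

/-- Part of the certificate at 2. -/
def combo2_47 : ℤ × List (ℕ × ℤ) := (0, [(1,1),(7,1),(8,3),(9,2),(14,1),(19,2),(20,3),(21,2),(23,1),(24,1),(25,3),(26,3),(27,2),(29,3),(31,1),(32,2),(33,3),(35,1),(41,3),(42,2),(44,3),(45,3),(46,3),(49,3),(50,3),(52,2),(53,1),(54,3),(60,3),(63,2),(64,1),(65,3),(66,2),(68,2),(69,2),(70,2),(71,2),(72,3),(74,3)])

/-- Part of the certificate at 2. -/
def combo2_48 : ℤ × List (ℕ × ℤ) := (0, [(5,1),(8,2),(9,2),(13,2),(15,3),(16,2),(18,1),(19,2),(20,2),(22,3),(23,1),(25,3),(28,3),(29,1),(33,1),(34,1),(36,2),(39,1),(40,1),(41,3),(42,3),(43,2),(44,2),(46,3),(47,2),(48,1),(50,1),(51,3),(52,1),(55,3),(56,1),(57,1),(58,3),(59,1),(60,1),(61,3),(63,1),(64,1),(67,3),(70,3),(71,1),(72,3),(74,1)])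

/-- Part of the certificate at 2. -/
def combo2_49 : ℤ × List (ℕ × ℤ) := (0, [(1,2),(5,3),(8,3),(9,2),(13,2),(14,2),(16,1),(18,3),(19,3),(21,1),(25,2),(26,1),(28,2),(29,1),(31,2),(32,3),(33,3),(35,3),(36,3),(39,3),(40,3),(41,2),(42,1),(43,2),(44,3),(45,2),(46,3),(47,1),(48,2),(52,3),(53,1),(54,2),(55,2),(56,2),(58,2),(59,2),(60,3),(61,1),(63,3),(67,3),(68,2),(69,3),(71,1),(73,2),(74,2)])

/-- Part of the certificate at 2. -/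
def combo2_50 : ℤ × List (ℕ × ℤ) := (0, [(1,2),(5,1),(7,1),(8,2),(13,2),(14,2),(16,3),(18,1),(19,3),(21,1),(23,3),(24,3),(26,3),(28,3),(29,1),(32,3),(34,2),(36,1),(38,2),(39,1),(40,2),(41,1),(42,1),(43,2),(44,3),(45,2),(47,3),(48,2),(49,2),(50,1),(52,2),(56,3),(59,1),(61,1),(63,2),(66,2),(67,2),(71,2),(72,3),(73,3)])

/-- Part of the certificate at 2. -/
def combo2_51 : ℤ × List (ℕ × ℤ) := (0, [(1,3),(5,1),(7,1),(9,2),(13,2),(14,3),(15,1),(16,1),(18,1),(19,1),(20,3),(21,1),(22,1),(23,3),(24,3),(25,1),(26,3),(27,1),(28,2),(29,3),(30,2),(32,3),(35,2),(36,3),(38,1),(40,2),(41,1),(42,2),(43,2),(44,1),(46,1),(47,1),(49,1),(51,3),(52,1),(53,2),(56,3),(57,1),(60,1),(61,2),(62,2),(63,2),(65,1),(66,2),(67,3),(68,2),(69,3),(70,2),(71,1),(73,2),(74,1)])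

/-- Part of the certificate at 2. -/
def combo2_52 : ℤ × List (ℕ × ℤ) := (0, [(5,3),(7,1),(8,2),(9,2),(13,3),(16,1),(18,3),(19,2),(20,1),(21,1),(23,2),(25,2),(26,2),(28,1),(30,1),(31,2),(32,3),(34,2),(35,3),(36,3),(38,1),(39,2),(40,2),(41,2),(42,1),(43,2),(45,2),(46,1),(47,1),(48,3),(49,2),(50,3),(53,3),(54,2),(55,3),(57,1),(58,1),(59,3),(60,3),(61,3),(62,2),(63,3),(64,1),(65,2),(67,1),(69,1),(70,2),(71,2),(73,3),(74,1)])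

/-- Part of the certificate at 2. -/
def combo2_53 : ℤ × List (ℕ × ℤ) := (0, [(0,2),(1,1),(3,2),(5,2),(7,1),(8,2),(9,2),(14,3),(17,1),(19,2),(20,3),(21,3),(23,3),(25,3),(27,3),(28,1),(30,3),(31,1),(33,2),(34,2),(35,2),(36,2),(37,1),(38,3),(39,1),(42,3),(43,3),(44,1),(45,2),(46,1),(47,3),(49,2),(50,3),(51,2),(52,3),(53,3),(54,1),(56,3),(58,2),(59,1),(60,3),(61,1),(62,3),(63,2),(64,3),(65,1),(67,2),(69,1),(70,2),(71,1),(72,2),(73,2),(74,2),(78,2),(79,2),(80,2),(81,2),(83,2),(84,2),(88,2)])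

/-- Part of the certificate at 2. -/
def combo2_54 : ℤ × List (ℕ × ℤ) := (0, [(1,2),(5,1),(7,2),(8,2),(9,3),(13,1),(14,2),(18,1),(19,1),(20,1),(21,3),(23,2),(24,1),(25,1),(27,2),(29,1),(30,3),(32,3),(33,1),(35,1),(38,1),(39,2),(41,3),(42,3),(43,2),(44,1),(45,2),(46,3),(48,2),(50,2),(52,2),(53,2),(54,2),(55,1),(56,1),(58,3),(62,1),(65,2),(66,3),(67,3),(68,3),(69,1),(70,2),(71,2),(72,1),(73,2)])

/-- Part of the certificate at 2. -/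
def combo2_55 : ℤ × List (ℕ × ℤ) := (0, [(1,2),(5,1),(7,1),(13,2),(14,2),(15,2),(16,3),(18,1),(19,1),(21,1),(22,2),(25,2),(26,1),(27,2),(29,1),(31,3),(32,3),(35,2),(36,1),(38,3),(39,2),(40,2),(42,1),(43,2),(44,1),(47,3),(48,2),(49,1),(50,3),(51,2),(52,3),(53,3),(54,1),(57,2),(58,3),(59,1),(60,3),(61,3),(62,1),(65,2),(66,2),(67,3),(68,1),(70,2),(71,1),(72,3),(73,2),(74,2)])

/-- Part of the certificate at 2. -/
def combo2_56 : ℤ × List (ℕ × ℤ) := (0, [(1,1),(5,1),(7,1),(9,2),(14,1),(15,3),(16,1),(18,1),(20,3),(21,1),(22,3),(28,1),(29,3),(30,1),(31,1),(32,3),(36,3),(38,3),(39,2),(40,3),(41,3),(43,2),(45,1),(46,1),(47,1),(48,1),(49,2),(50,2),(51,3),(52,3),(53,2),(55,1),(56,2),(57,3),(58,1),(60,2),(61,3),(62,2),(63,1),(65,2),(66,2),(67,2),(68,1),(69,1),(71,1),(72,1),(74,1)])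

/-- Part of the certificate at 2. -/
def combo2_57 : ℤ × List (ℕ × ℤ) := (0, [(1,3),(5,1),(8,3),(9,2),(13,2),(14,3),(16,3),(18,1),(19,2),(20,3),(21,3),(23,2),(25,2),(26,1),(27,3),(28,2),(29,2),(30,1),(31,1),(32,1),(33,3),(34,2),(35,3),(36,1),(38,3),(39,1),(40,1),(42,3),(43,2),(45,2),(46,1),(47,3),(48,2),(49,2),(51,1),(52,1),(53,3),(54,1),(56,3),(57,2),(60,3),(61,3),(62,1),(65,1),(67,3),(70,1),(71,1),(73,1),(74,3)])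

/-- Part of the certificate at 2. -/
def combo2_58 : ℤ × List (ℕ × ℤ) := (0, [(1,1),(7,1),(9,2),(13,2),(14,1),(15,3),(19,3),(20,1),(21,2),(22,3),(23,2),(24,2),(25,1),(26,3),(27,3),(29,3),(32,2),(33,2),(34,1),(35,2),(38,1),(39,1),(42,3),(44,2),(46,3),(49,1),(50,1),(51,1),(52,3),(53,1),(54,3),(55,1),(57,3),(60,1),(61,3),(62,3),(63,2),(64,2),(65,3),(66,2),(67,3),(68,2),(69,3),(70,3),(71,2),(72,3),(73,1)])

/-- Part of the certificate at 2. -/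
def combo2_59 : ℤ × List (ℕ × ℤ) := (0, [(5,2),(7,3),(8,3),(9,2),(13,2),(18,2),(19,2),(20,2),(21,2),(24,2),(25,1),(26,1),(27,3),(29,3),(32,2),(33,3),(34,3),(35,3),(38,1),(39,1),(40,1),(41,1),(42,3),(44,2),(45,3),(46,3),(48,1),(49,1),(50,1),(51,3),(52,1),(53,1),(55,1),(56,2),(57,3),(58,2),(59,1),(60,3),(61,3),(62,1),(65,2),(66,1),(67,3),(68,1),(69,1),(70,1),(74,2)])

/-- Part of the certificate at 2. -/
def combo2_60 : ℤ × List (ℕ × ℤ) := (0, [(1,1),(5,3),(7,1),(9,3),(13,1),(14,1),(15,3),(16,2),(18,3),(19,3),(20,2),(21,1),(22,3),(23,2),(24,1),(25,2),(26,3),(27,3),(28,2),(29,2),(30,2),(31,3),(32,1),(33,1),(34,2),(35,3),(36,2),(38,2),(39,1),(40,1),(41,3),(42,2),(43,2),(44,2),(45,2),(46,2),(47,2),(48,1),(49,3),(50,1),(51,2),(52,3),(53,3),(54,3),(55,2),(56,1),(57,2),(59,1),(60,3),(61,3),(62,1),(63,3),(64,2),(65,3),(67,1),(68,3),(69,3),(70,2),(71,1),(72,2),(73,3),(74,2)])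

/-- Part of the certificate at 2. -/
def combo2_61 : ℤ × List (ℕ × ℤ) := (0, [(1,1),(5,3),(8,3),(9,1),(13,1),(14,1),(15,2),(16,2),(18,3),(19,3),(20,2),(21,3),(22,2),(24,1),(28,1),(29,1),(31,3),(32,3),(34,2),(36,2),(38,2),(39,2),(40,3),(42,3),(43,2),(44,1),(45,3),(46,2),(47,2),(48,2),(49,1),(50,3),(51,2),(52,3),(53,2),(55,1),(56,2),(57,3),(58,1),(59,1),(60,2),(61,3),(64,2),(65,1),(67,2),(70,1),(71,1),(72,3)])

/-- Part of the certificate at 2. -/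
def combo2_62 : ℤ × List (ℕ × ℤ) := (0, [(5,1),(7,3),(8,2),(9,3),(15,2),(16,3),(18,1),(22,2),(25,2),(26,3),(27,1),(28,2),(29,2),(30,3),(32,2),(33,3),(34,2),(35,2),(36,1),(38,3),(39,1),(40,3),(41,1),(43,2),(44,3),(45,1),(47,3),(48,1),(49,3),(50,3),(51,1),(52,1),(53,1),(54,1),(56,2),(58,2),(59,3),(61,1),(62,1),(64,2),(66,3),(69,2),(70,1),(71,1),(72,2),(74,3)])

/-- Part of the certificate at 2. -/
def combo2_63 : ℤ × List (ℕ × ℤ) := (0, [(5,1),(8,1),(15,2),(16,3),(18,1),(21,1),(22,2),(25,3),(26,1),(27,1),(30,3),(31,1),(32,3),(33,3),(34,1),(35,3),(36,1),(38,1),(39,2),(40,2),(43,2),(44,1),(45,1),(46,1),(47,3),(48,1),(49,3),(51,3),(52,1),(53,3),(56,2),(58,1),(59,1),(62,2),(63,2),(64,2),(65,2),(66,1),(67,3),(68,1),(69,3),(70,2),(71,1),(72,3)])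

/-- Part of the certificate at 2. -/
def combo2_64 : ℤ × List (ℕ × ℤ) := (0, [(1,1),(7,3),(8,1),(9,1),(13,3),(14,1),(15,3),(16,2),(19,3),(21,3),(22,3),(23,2),(24,1),(25,2),(26,2),(27,3),(28,1),(29,1),(31,3),(32,3),(36,2),(38,2),(39,3),(40,1),(41,1),(42,1),(44,3),(45,3),(46,3),(47,2),(48,2),(49,3),(50,3),(51,1),(54,1),(55,1),(56,1),(58,2),(59,3),(62,3),(63,3),(67,3),(68,3),(69,2),(70,1),(71,3),(72,3),(73,2),(74,1)])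

/-- Part of the certificate at 2. -/
def combo2_65 : ℤ × List (ℕ × ℤ) := (0, [(5,1),(7,2),(8,1),(9,2),(13,1),(16,3),(18,1),(19,3),(20,3),(21,3),(23,1),(24,3),(26,2),(27,3),(28,2),(30,2),(31,2),(32,1),(33,1),(34,2),(35,2),(36,1),(39,2),(42,3),(43,2),(44,3),(45,1),(47,3),(48,1),(50,2),(51,3),(52,1),(53,3),(54,3),(55,1),(56,1),(57,1),(58,3),(59,2),(60,2),(61,3),(62,1),(63,2),(65,1),(66,2),(67,1),(68,2),(69,1),(70,1),(71,2),(72,3),(73,3)])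

/-- Part of the certificate at 2. -/
def combo2_66 : ℤ × List (ℕ × ℤ) := (0, [(5,3),(8,1),(9,1),(13,2),(16,2),(18,3),(19,2),(20,2),(21,3),(23,1),(24,2),(26,3),(27,1),(28,1),(29,3),(30,1),(31,1),(32,3),(34,2),(35,1),(36,2),(38,1),(41,1),(42,1),(43,2),(44,2),(45,1),(46,1),(47,2),(48,1),(49,3),(51,2),(52,2),(53,1),(54,1),(55,1),(56,2),(57,1),(58,1),(59,3),(60,1),(61,1),(62,3),(63,2),(65,1),(66,1),(68,2),(69,2),(71,1),(72,3),(73,3),(74,3)])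

/-- Part of the certificate at 2. -/
def combo2_67 : ℤ × List (ℕ × ℤ) := (0, [(1,1),(7,1),(8,2),(13,2),(14,1),(16,2),(20,1),(21,2),(23,3),(24,1),(25,2),(26,1),(27,1),(28,1),(29,1),(30,3),(31,3),(32,2),(33,2),(34,3),(36,2),(38,3),(39,3),(44,1),(45,2),(46,2),(47,2),(48,3),(49,2),(51,2),(53,1),(54,3),(55,1),(60,1),(62,2),(64,2),(65,1),(68,2),(71,2),(73,1),(74,2)])

/-- Part of the certificate at 2. -/
def combo2_68 : ℤ × List (ℕ × ℤ) := (0, [(1,3),(8,1),(9,2),(13,2),(14,3),(15,2),(16,2),(19,2),(20,3),(22,2),(23,1),(26,1),(27,2),(29,2),(30,3),(33,3),(34,1),(35,1),(36,2),(38,1),(39,3),(40,3),(41,3),(42,1),(44,1),(45,1),(46,1),(47,2),(48,2),(49,1),(50,1),(53,1),(54,3),(55,3),(56,1),(57,3),(58,3),(59,2),(60,1),(62,3),(63,3),(64,2),(65,3),(66,1),(67,2),(69,2),(72,3),(73,2),(74,3)])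

/-- Part of the certificate at 2. -/
def combo2_69 : ℤ × List (ℕ × ℤ) := (0, [(1,2),(5,2),(7,2),(8,1),(9,1),(14,2),(15,1),(16,3),(18,2),(19,3),(20,2),(21,2),(22,1),(23,3),(25,3),(26,2),(27,3),(28,1),(31,2),(33,3),(35,3),(36,1),(38,1),(39,3),(40,2),(41,3),(42,1),(44,2),(45,1),(47,3),(48,1),(49,1),(50,1),(51,2),(52,1),(53,3),(54,3),(55,3),(56,1),(58,3),(59,2),(60,3),(61,1),(62,3),(63,1),(64,2),(65,2),(67,3),(68,2),(69,3),(70,3),(71,2),(72,1),(73,1),(74,1)])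

/-- Part of the certificate at 2. -/
def combo2_70 : ℤ × List (ℕ × ℤ) := (0, [(1,3),(7,2),(8,2),(9,3),(13,2),(14,3),(15,2),(16,1),(19,1),(20,3),(21,2),(22,2),(23,2),(24,2),(26,1),(27,3),(29,1),(30,3),(33,1),(34,2),(36,3),(38,3),(39,2),(41,2),(42,1),(45,2),(47,1),(49,3),(50,3),(53,2),(54,1),(56,3),(57,3),(58,3),(59,1),(60,3),(61,2),(62,1),(65,1),(66,3),(67,3),(68,2),(70,1)])

/-- Part of the certificate at 2. -/
def combo2_71 : ℤ × List (ℕ × ℤ) := (0, [(1,2),(5,3),(7,1),(8,3),(9,3),(13,3),(14,2),(15,1),(16,2),(18,3),(20,3),(21,1),(22,1),(24,3),(26,1),(28,1),(29,1),(30,2),(31,3),(32,1),(34,1),(35,2),(36,2),(38,2),(39,3),(40,1),(42,2),(43,2),(44,2),(46,1),(47,2),(49,1),(50,1),(52,2),(53,2),(54,3),(55,2),(56,2),(57,3),(58,1),(59,2),(60,3),(61,3),(63,2),(64,2),(65,2),(68,3),(70,3),(71,1),(73,3),(74,1)])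

/-- Part of the certificate at 2. -/
def combo2_72 : ℤ × List (ℕ × ℤ) := (0, [(1,3),(5,1),(7,1),(9,2),(13,2),(14,3),(15,3),(16,3),(18,1),(19,2),(20,3),(21,3),(22,3),(24,1),(25,1),(26,3),(27,2),(28,2),(29,3),(30,3),(32,1),(34,1),(35,2),(36,1),(38,2),(39,3),(40,1),(42,2),(43,2),(44,2),(45,1),(46,3),(47,3),(48,3),(49,1),(50,2),(51,1),(53,1),(54,1),(56,3),(57,1),(58,2),(60,3),(62,1),(64,2),(66,3),(67,2),(68,2),(69,3),(71,1),(72,3),(73,3),(74,3)])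

/-- Part of the certificate at 2. -/
def combo2_73 : ℤ × List (ℕ × ℤ) := (0, [(1,3),(5,3),(8,3),(9,1),(13,3),(14,3),(15,1),(16,1),(18,3),(19,1),(20,2),(22,1),(23,1),(24,3),(25,2),(27,2),(28,1),(29,2),(30,2),(31,1),(32,2),(33,3),(34,3),(35,2),(36,3),(39,3),(40,2),(41,2),(43,2),(44,3),(45,3),(46,3),(47,1),(48,2),(49,3),(50,1),(52,1),(55,2),(56,3),(59,3),(60,3),(61,1),(62,3),(63,2),(65,2),(67,1),(68,1),(69,3),(70,2),(71,2),(72,3),(73,1),(74,2)])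

/-- Part of the certificate at 2. -/
def combo2_74 : ℤ × List (ℕ × ℤ) := (0, [(1,3),(5,3),(13,2),(14,3),(15,1),(16,1),(18,3),(20,3),(21,3),(22,1),(23,2),(24,3),(25,3),(26,1),(27,2),(29,2),(30,2),(31,3),(32,1),(33,3),(34,2),(35,2),(36,3),(38,3),(39,1),(40,2),(41,1),(43,2),(44,1),(45,1),(46,1),(47,1),(48,2),(50,3),(51,2),(52,2),(53,2),(54,3),(55,1),(56,3),(57,2),(58,1),(59,2),(60,3),(62,3),(63,3),(65,2),(66,1),(67,3),(68,2),(70,3),(71,1),(72,1),(73,1)])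

/-- Part of the certificate at 2. -/
def combo2_75 : ℤ × List (ℕ × ℤ) := (0, [(5,2),(7,3),(8,1),(9,3),(13,1),(16,3),(18,2),(20,3),(23,3),(24,1),(25,3),(26,1),(27,3),(29,2),(30,2),(31,2),(32,2),(34,3),(35,2),(36,1),(38,3),(39,3),(41,2),(42,2),(44,3),(45,1),(47,3),(48,2),(49,2),(50,1),(51,1),(52,2),(55,3),(56,3),(58,3),(60,1),(61,1),(62,1),(63,2),(64,2),(65,1),(66,1),(68,3),(69,1),(70,1),(72,3),(73,3),(74,1)])

/-- Part of the certificate at 2. -/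
def combo2_76 : ℤ × List (ℕ × ℤ) := (0, [(1,1),(5,3),(8,2),(9,1),(13,3),(14,1),(15,3),(18,3),(19,2),(21,1),(22,3),(23,3),(24,2),(26,3),(27,1),(31,1),(32,1),(33,3),(35,3),(38,2),(40,3),(41,3),(42,2),(43,2),(46,2),(48,2),(49,3),(51,3),(52,3),(53,3),(54,3),(55,2),(59,3),(61,1),(62,2),(63,3),(64,2),(66,1),(67,2),(68,1),(69,2),(70,3),(71,3),(73,3),(74,1)])

/-- Part of the certificate at 2. -/
def combo2_77 : ℤ × List (ℕ × ℤ) := (0, [(1,3),(5,1),(7,3),(8,2),(14,3),(15,3),(16,3),(18,1),(19,1),(20,1),(21,1),(22,3),(25,2),(26,3),(27,3),(28,2),(29,2),(30,2),(31,3),(32,3),(33,3),(35,2),(36,1),(38,1),(39,3),(41,2),(42,1),(43,2),(44,2),(45,2),(46,3),(47,3),(48,3),(49,2),(50,3),(53,1),(54,1),(55,2),(57,1),(58,1),(59,3),(60,1),(61,1),(62,1),(63,1),(65,2),(66,2),(67,2),(68,3),(69,1),(70,2),(71,3),(72,1),(74,3)])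

/-- Part of the certificate at 2. -/
def combo2_78 : ℤ × List (ℕ × ℤ) := (0, [(5,1),(8,2),(9,1),(13,3),(15,1),(18,1),(20,1),(21,1),(22,1),(26,3),(27,1),(29,1),(32,1),(33,3),(34,3),(35,3),(39,3),(41,2),(43,2),(44,1),(45,3),(46,2),(48,3),(49,1),(50,2),(51,3),(52,2),(53,1),(56,3),(58,2),(59,1),(60,1),(61,1),(63,3),(65,2),(66,2),(67,1),(68,3),(69,1),(70,2),(71,1),(74,2)])

/-- Part of the certificate at 2. -/
def combo2_79 : ℤ × List (ℕ × ℤ) := (0, [(1,3),(5,3),(7,1),(8,2),(14,3),(15,3),(16,3),(18,3),(19,1),(20,1),(21,1),(22,3),(23,3),(24,1),(25,2),(26,2),(31,2),(32,3),(34,1),(35,2),(36,1),(38,1),(39,2),(40,2),(41,3),(43,2),(45,3),(46,3),(47,3),(50,1),(51,3),(52,3),(54,3),(55,2),(56,3),(58,2),(59,1),(60,1),(61,2),(63,2),(65,1),(67,3),(68,1),(69,2),(70,3),(71,2),(72,1),(73,1),(74,1)])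

/-- Part of the certificate at 2. -/
def combo2_80 : ℤ × List (ℕ × ℤ) := (0, [(5,3),(7,1),(8,2),(9,2),(13,2),(15,2),(16,1),(18,3),(19,2),(20,2),(21,1),(22,2),(23,3),(24,1),(25,3),(26,3),(27,2),(28,3),(29,2),(30,3),(32,3),(34,1),(36,3),(38,1),(39,2),(40,1),(42,1),(43,2),(44,1),(45,2),(46,2),(47,1),(48,1),(49,3),(50,2),(51,2),(52,3),(53,1),(55,1),(56,1),(57,3),(59,2),(60,2),(61,2),(62,3),(63,1),(65,1),(68,1),(69,1),(70,1),(71,2),(72,3),(73,3),(74,2)])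

/-- Part of the certificate at 2. -/
def combo2_81 : ℤ × List (ℕ × ℤ) := (0, [(5,2),(9,2),(15,2),(18,2),(21,2),(22,2),(23,1),(25,1),(27,2),(29,2),(31,1),(32,2),(33,3),(38,1),(40,2),(41,3),(42,2),(44,2),(45,2),(46,2),(48,2),(49,1),(50,1),(51,3),(52,3),(53,1),(54,3),(55,3),(56,2),(58,1),(59,3),(60,2),(61,1),(63,1),(65,1),(66,1),(67,3),(68,1),(69,3),(70,2),(71,1),(72,2),(73,2)])

/-- Part of the certificate at 2. -/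
def combo2_82 : ℤ × List (ℕ × ℤ) := (0, [(1,2),(8,2),(13,2),(14,2),(15,2),(19,2),(22,2),(23,1),(24,2),(25,1),(27,2),(28,2),(31,3),(33,3),(38,1),(41,3),(46,2),(48,2),(49,3),(50,3),(51,3),(52,1),(53,1),(54,3),(55,1),(56,2),(57,2),(58,3),(59,1),(60,2),(61,3),(63,1),(66,1),(67,3),(68,1),(69,2),(71,3),(73,2)])

/-- Part of the certificate at 2. -/
def combo2_83 : ℤ × List (ℕ × ℤ) := (0, [(1,2),(5,3),(7,2),(8,2),(9,2),(13,2),(14,2),(15,1),(16,1),(18,3),(19,2),(21,1),(22,1),(23,1),(24,3),(26,3),(27,1),(28,2),(29,2),(30,2),(32,3),(34,3),(36,3),(38,2),(39,1),(40,3),(41,2),(43,2),(44,1),(45,3),(46,1),(47,1),(49,1),(50,2),(51,2),(52,3),(53,1),(55,2),(56,2),(57,1),(58,3),(59,1),(60,1),(61,1),(62,3),(63,3),(65,1),(66,3),(67,1),(68,1),(70,3),(71,1),(72,2),(73,1),(74,3)])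

/-- Part of the certificate at 2. -/
def combo2_84 : ℤ × List (ℕ × ℤ) := (0, [(1,3),(5,2),(7,3),(8,3),(9,3),(13,1),(14,3),(15,1),(16,1),(18,2),(19,3),(21,2),(22,1),(23,3),(26,3),(28,3),(29,1),(30,1),(31,1),(34,2),(36,3),(40,3),(41,1),(44,1),(45,1),(46,1),(47,1),(48,3),(51,2),(52,3),(54,2),(56,2),(58,2),(59,3),(60,2),(61,2),(62,2),(63,2),(65,2),(67,1),(68,1),(69,2),(70,3),(71,3),(72,2)])

/-- Part of the certificate at 2. -/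
def combo2_85 : ℤ × List (ℕ × ℤ) := (0, [(5,2),(7,3),(9,2),(13,2),(18,2),(20,2),(21,2),(23,1),(24,3),(25,3),(26,1),(27,1),(28,3),(29,1),(30,1),(31,3),(32,2),(33,3),(34,2),(35,2),(38,2),(39,2),(40,3),(42,1),(45,1),(46,2),(49,1),(50,3),(52,2),(54,3),(55,2),(56,1),(58,3),(59,3),(61,3),(62,2),(63,2),(66,2),(67,2),(68,1),(70,3),(71,1),(72,1),(73,2),(74,1)])

/-- Part of the certificate at 2. -/
def combo2_86 : ℤ × List (ℕ × ℤ) := (0, [(1,1),(7,3),(8,2),(9,2),(13,2),(14,1),(15,3),(16,2),(19,2),(20,1),(22,3),(23,2),(26,1),(27,1),(29,3),(30,3),(33,1),(34,2),(36,2),(40,1),(44,2),(45,2),(46,1),(47,2),(48,2),(49,3),(50,2),(51,2),(52,2),(53,3),(54,3),(55,1),(56,2),(60,2),(62,1),(65,1),(66,1),(67,1),(68,3),(69,1),(70,2),(71,2),(72,2),(73,2),(74,3)])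

/-- Part of the certificate at 2. -/
def combo2_87 : ℤ × List (ℕ × ℤ) := (0, [(1,2),(5,1),(7,2),(9,2),(13,2),(14,2),(15,3),(16,1),(18,1),(21,1),(22,3),(23,2),(24,1),(28,1),(29,2),(30,2),(31,1),(32,3),(33,3),(34,2),(35,2),(36,3),(38,3),(39,2),(40,3),(41,3),(42,1),(43,2),(45,2),(46,1),(47,1),(48,3),(49,1),(51,1),(52,2),(54,1),(56,2),(59,1),(60,2),(61,1),(63,3),(65,3),(66,1),(68,1),(69,1),(70,2),(71,3),(72,1),(73,1),(74,1)])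

/-- Part of the certificate at 2. -/
def combo2_88 : ℤ × List (ℕ × ℤ) := (0, [(1,2),(5,3),(7,2),(8,3),(9,1),(13,1),(14,2),(15,3),(18,3),(19,3),(20,1),(21,1),(22,3),(23,2),(24,2),(25,2),(26,1),(28,3),(31,1),(32,1),(33,3),(34,1),(38,3),(39,2),(40,3),(42,2),(43,2),(46,1),(48,2),(49,3),(50,2),(52,2),(54,3),(56,1),(57,3),(58,3),(61,1),(62,3),(63,3),(64,2),(65,2),(66,3),(67,3),(68,3),(69,1),(71,1),(72,3),(73,3),(74,1)])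

/-- Part of the certificate at 2. -/
def combo2_89 : ℤ × List (ℕ × ℤ) := (0, [(8,3),(9,1),(13,1),(15,1),(16,3),(19,3),(20,3),(21,2),(22,1),(24,1),(26,2),(27,3),(29,1),(30,2),(34,3),(36,1),(38,1),(39,1),(40,1),(41,2),(44,1),(45,1),(46,3),(47,3),(48,2),(49,3),(51,1),(52,1),(53,2),(55,3),(56,2),(57,2),(59,2),(60,3),(62,3),(65,3),(66,1),(67,2),(68,3),(69,1),(71,1),(72,3),(73,3),(74,2)])

/-- Part of the certificate at 2. -/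
def combo2_90 : ℤ × List (ℕ × ℤ) := (0, [(1,1),(5,2),(7,2),(8,2),(9,1),(14,1),(15,3),(16,1),(18,2),(19,1),(20,3),(22,3),(23,2),(24,3),(25,3),(27,1),(28,3),(29,1),(30,3),(31,2),(32,2),(33,1),(35,2),(36,3),(38,3),(39,1),(40,3),(42,1),(44,2),(45,2),(46,3),(47,1),(48,3),(49,2),(50,3),(52,1),(53,1),(54,2),(56,3),(57,3),(59,3),(60,2),(61,3),(62,2),(63,1),(64,2),(65,1),(66,2),(69,3),(70,1),(71,1),(72,3),(73,3)])

/-- The certificate at 2. -/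
def cert2 : Cert where
  fuel := 214
  k := 1
  e := 2
  eqns := [
    .assoc [2] [1,0],
    .assoc [3] [1,0],
    .assoc [3] [2,0],
    .assoc [3] [2,1],
    .assoc [4] [1,0],
    .assoc [4] [2,0],
    .assoc [4] [2,1],
    .assoc [4] [3,0],
    .assoc [4] [3,1],
    .assoc [4] [3,2],
    .assoc [5] [1,0],
    .assoc [5] [2,0],
    .assoc [5] [2,1],
    .assoc [5] [3,0],
    .assoc [5] [3,1],
    .assoc [5] [3,2],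
    .assoc [5] [4,0],
    .assoc [5] [4,1],
    .assoc [5] [4,2],
    .assoc [5] [4,3],
    .assoc [6] [1,0],
    .assoc [6] [2,0],
    .assoc [6] [2,1],
    .assoc [6] [3,0],
    .assoc [6] [3,1],
    .assoc [6] [3,2],
    .assoc [6] [4,0],
    .assoc [6] [4,1],
    .assoc [6] [4,2],
    .assoc [6] [4,3],
    .assoc [6] [5,0],
    .assoc [6] [5,1],
    .assoc [6] [5,2],
    .assoc [6] [5,3],
    .assoc [6] [5,4],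
    .assoc [7] [1,0],
    .assoc [7] [2,0],
    .assoc [7] [2,1],
    .assoc [7] [3,0],
    .assoc [7] [3,1],
    .assoc [7] [3,2],
    .assoc [7] [4,0],
    .assoc [7] [4,1],
    .assoc [7] [4,2],
    .assoc [7] [4,3],
    .assoc [7] [5,0],
    .assoc [7] [5,1],
    .assoc [7] [5,2],
    .assoc [7] [5,3],
    .assoc [7] [5,4],
    .assoc [7] [6,0],
    .assoc [7] [6,1],
    .assoc [7] [6,2],
    .assoc [7] [6,3],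
    .assoc [7] [6,4],
    .assoc [7] [6,5],
    .assoc [8] [1,0],
    .assoc [8] [2,0],
    .assoc [8] [2,1],
    .assoc [8] [3,0],
    .assoc [8] [3,1],
    .assoc [8] [3,2],
    .assoc [8] [4,0],
    .assoc [8] [4,1],
    .assoc [8] [4,2],
    .assoc [8] [4,3],
    .assoc [8] [5,0],
    .assoc [8] [5,1],
    .assoc [8] [5,2],
    .assoc [8] [5,3],
    .assoc [8] [5,4],
    .assoc [8] [6,0],
    .assoc [8] [6,1],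
    .assoc [8] [6,2],
    .assoc [8] [6,4],
    .assoc [0] [0,0],
    .assoc [1] [0,0],
    .assoc [1] [1,0],
    .assoc [2] [0,0],
    .assoc [2] [2,0],
    .assoc [2] [1,1],
    .assoc [2] [2,1],
    .assoc [3] [0,0],
    .assoc [3] [2,2],
    .assoc [4] [1,1],
    .fus 0 [[6],[2,3]] [[5,6,7,8,9,12,13],[2,3,5,6,8,11,13]] [1,0],
    .fus 0 [[4,8],[2,3,7]] [[2,3,6,9,12],[2,3,5,6,7,8,9,10]] [1,0],
    .fus 1 [[0,4,5],[3]] [[0,5,6,7,10,11,13],[0,3,4,5,6,7,9,11,13]] [1,0],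
    .fus 2 [[0,1,3,4,6,9],[0,1,3,4,6,7,8]] [[0,1,2,4,7,10,13],[4,5,6,7,8,9,10,12]] [1,0],
    .fus 3 [[0,4,5,6,8,9],[3,4,6,7,8]] [[0,5,6,12],[0,4,5,8,11,12,13]] [1,0],
    .fus 3 [[3,4,7,8,9],[0,5,6]] [[0,4,5,6,8,9,12,13],[0,4,5,6,8,9,11,13]] [1,0]]
  rows := [
    row2_0,
    row2_1,
    row2_2,
    row2_3,
    row2_4,
    row2_5,
    row2_6,
    row2_7,
    row2_8,
    row2_9,
    row2_10,
    row2_11,
    row2_12,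
    row2_13,
    row2_14,
    row2_15,
    row2_16,
    row2_17,
    row2_18,
    row2_19,
    row2_20,
    row2_21,
    row2_22,
    row2_23,
    row2_24,
    row2_25,
    row2_26,
    row2_27,
    row2_28,
    row2_29,
    row2_30,
    row2_31,
    row2_32,
    row2_33,
    row2_34,
    row2_35,
    row2_36,
    row2_37,
    row2_38,
    row2_39,
    row2_40,
    row2_41,
    row2_42,
    row2_43,
    row2_44,
    row2_45,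
    row2_46,
    row2_47,
    row2_48,
    row2_49,
    row2_50,
    row2_51,
    row2_52,
    row2_53,
    row2_54,
    row2_55,
    row2_56,
    row2_57,
    row2_58,
    row2_59,
    row2_60,
    row2_61,
    row2_62,
    row2_63,
    row2_64,
    row2_65,
    row2_66,
    row2_67,
    row2_68,
    row2_69,
    row2_70,
    row2_71,
    row2_72,
    row2_73,
    row2_74,
    row2_75,
    row2_76,
    row2_77,
    row2_78,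
    row2_79,
    row2_80,
    row2_81,
    row2_82,
    row2_83,
    row2_84,
    row2_85,
    row2_86,
    row2_87,
    row2_88,
    row2_89,
    row2_90]
  live := [42,43,45,56,58,59,60,70,71,72,73,74,75,84,86,87,88,89,90,98,99,101,102,103,104,105,112,113,115,116,117,118,119,120,126,127,128,129,130,131,132,133,134,135,141,142,143,144,145,146,147,148,149,150,154,156,157,158,159,160,161,162,163,164,165,168,169,171,172,173,174,175,176,177,178,179,180,182,183,184,185,186,187,188,189,190,191,192,193,194,195]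
  free := [0,15,30]
  top := 126
  combos := [
    combo2_0,
    combo2_1,
    combo2_2,
    combo2_3,
    combo2_4,
    combo2_5,
    combo2_6,
    combo2_7,
    combo2_8,
    combo2_9,
    combo2_10,
    combo2_11,
    combo2_12,
    combo2_13,
    combo2_14,
    combo2_15,
    combo2_16,
    combo2_17,
    combo2_18,
    combo2_19,
    combo2_20,
    combo2_21,
    combo2_22,
    combo2_23,
    combo2_24,
    combo2_25,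
    combo2_26,
    combo2_27,
    combo2_28,
    combo2_29,
    combo2_30,
    combo2_31,
    combo2_32,
    combo2_33,
    combo2_34,
    combo2_35,
    combo2_36,
    combo2_37,
    combo2_38,
    combo2_39,
    combo2_40,
    combo2_41,
    combo2_42,
    combo2_43,
    combo2_44,
    combo2_45,
    combo2_46,
    combo2_47,
    combo2_48,
    combo2_49,
    combo2_50,
    combo2_51,
    combo2_52,
    combo2_53,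
    combo2_54,
    combo2_55,
    combo2_56,
    combo2_57,
    combo2_58,
    combo2_59,
    combo2_60,
    combo2_61,
    combo2_62,
    combo2_63,
    combo2_64,
    combo2_65,
    combo2_66,
    combo2_67,
    combo2_68,
    combo2_69,
    combo2_70,
    combo2_71,
    combo2_72,
    combo2_73,
    combo2_74,
    combo2_75,
    combo2_76,
    combo2_77,
    combo2_78,
    combo2_79,
    combo2_80,
    combo2_81,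
    combo2_82,
    combo2_83,
    combo2_84,
    combo2_85,
    combo2_86,
    combo2_87,
    combo2_88,
    combo2_89,
    combo2_90]
  topCombo := [(0,3),(1,1),(2,1),(3,1),(4,1),(5,1),(6,2),(7,3),(8,2),(11,2),(13,1),(15,2),(17,3),(18,2),(19,2),(23,3),(24,2),(28,2),(30,3),(31,1),(32,3),(33,3),(34,3),(35,2),(36,3),(37,3),(39,1),(41,2),(42,1),(43,3),(44,1),(47,3),(48,2),(50,2),(51,2),(52,3),(53,3),(54,1),(55,1),(57,3),(58,1),(59,2),(60,3),(61,3),(62,1),(63,3),(64,2),(65,1),(66,3),(67,1),(68,1),(69,3),(70,2),(72,2),(73,1),(74,3),(75,3),(78,1),(79,1),(80,3),(81,3),(83,1),(84,3),(85,2),(87,1),(88,1),(89,1),(90,1)]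

/-- The positions at 2. -/
noncomputable def perm2 : PermData := ⟨ctx, [232,251,264,278,293,307,322,334,348,366,378,394,409,423], [440,457,469,482], [1913,653]⟩

/-- The presentation at 3. -/
def pc3 : Pc := ⟨3, 3, 2, [[],[],[],[2],[],[],[],[],[]], [(1,0)]⟩

/-- The certificate at 3. -/
def cert3 : Cert where
  fuel := 15
  k := 0
  e := 1
  eqns := [
    .assoc [1] [0,0,0],
    .fus 0 [[0,1,1],[0,0,1]] [[0,0,1,2],[0,1,1,2,2]] [1,0],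
    .fus 0 [[0,0,1,1],[0,1]] [[0,1,2],[0,0,1,1,2,2]] [1,0]]
  rows := [
    [3,0,1],
    [4,-1,2],
    [-2,1,0]]
  live := [6,7,8]
  free := [0,4]
  top := 6
  combos := [
    (0, [(0,2),(1,2),(2,2)]),
    (0, [(0,1),(1,1),(2,2)]),
    (0, [(0,1)])]
  topCombo := [(0,2),(1,2),(2,2)]

/-- The positions at 3. -/
noncomputable def perm3 : PermData := ⟨ctx, [493,504,514], [529], [1029]⟩

/-- The presentation at 5. -/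
def pc5 : Pc := ⟨5, 3, 2, [[],[],[],[2],[],[],[],[],[]], [(1,0)]⟩

/-- The certificate at 5. -/
def cert5 : Cert where
  fuel := 28
  k := 0
  e := 1
  eqns := [
    .assoc [1] [0,0,0,0,0],
    .fus 0 [[0,1,1],[0,0,0,1]] [[0,0,1,1,1,1,2,2,2,2],[0,1,1]] [1,0],
    .fus 0 [[0,0,1,1],[0,1]] [[0,0,0],[0,0,0,0,2,2,2]] [1,0]]
  rows := [
    [10,0,1],
    [4,8,1],
    [8,-1,0]]
  live := [6,7,8]
  free := [0,4]
  top := 6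
  combos := [
    (0, [(0,3),(1,2),(2,1)]),
    (0, [(0,4),(1,1),(2,2)]),
    (0, [(0,1)])]
  topCombo := [(0,3),(1,2),(2,1)]

/-- The positions at 5. -/
noncomputable def perm5 : PermData := ⟨ctx, [544,557,571], [585], [966]⟩

end Cfsg.Agent.H70.RuMult
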